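import Cfsg.Agent.OddCyclic.FFRed

/-!
# Elementary abelian groups with few commutators (weak form of best offenders)

`A` elementary abelian, faithful on the normal simple subgroup `L`, `|V : C_V(a)| ≤ |A|` for all `a ∈ A`.
-/

set_option autoImplicit false
set_option linter.unusedSectionVars false

namespace Cfsg.Agent.OddCyclic.ClaimC.WDefs

open Cfsg.Agent.OddCyclic.FFBasic Cfsg.Agent.OddCyclic.FFRed

structure Fw {H : Type*} [Group H] {V : Type*} [CommGroup V] (ρ : H →* MulAut V) (L A : Subgroup H) : Prop where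
  sq : ∀ a ∈ A, a * a = 1
  ne : A ≠ ⊥
  idx : ∀ a ∈ A, (fx ρ a).index ≤ Nat.card A
  faithA : ∀ a ∈ A, (∀ l ∈ L, a * l = l * a) → a = 1
  inn : ∀ a ∈ A, ∀ g ∈ L, (∀ l ∈ L, a * l * a⁻¹ = g * l * g⁻¹) → a ∈ L
  faithL : ∀ y ∈ L, y ≠ 1 → ∃ v, ρ y v ≠ v

end Cfsg.Agent.OddCyclic.ClaimC.WDefs
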