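import Cfsg.Agent.OddCyclic.FFJ1
import Cfsg.Agent.OddCyclic.ClaimC.WDefs

/-!
# Weak offenders: `J₁`
-/

set_option autoImplicit false
set_option linter.unusedSectionVars false

namespace Cfsg.Agent.OddCyclic.ClaimC.WJ

open Subgroup Cfsg.Agent.SporRec.J1.Defs Cfsg.Agent.OddCyclic.T1Module Cfsg.Agent.OddCyclic.FFBasic
  Cfsg.Agent.OddCyclic.FFRed Cfsg.Agent.OddCyclic.FFSl2 Cfsg.Agent.OddCyclic.FFJ1 Cfsg.Agent.OddCyclic.ClaimC.WDefs

section jone

variable {H : Type*} [Group H] [Finite H] {V : Type*} [CommGroup V] [Finite V] {ρ : H →* MulAut V}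
variable {L A : Subgroup H} [L.Normal]

/-- the offender is contained in `L` -/
theorem jle_L (h : Fw ρ L A) (hJ : Local L) {k : L} (hk : orderOf k = 2) : A ≤ L := by
  intro a ha
  obtain ⟨g, hg⟩ := JInner.inner hJ k hk (MulAut.conjNormal a : MulAut L)
  refine h.inn a ha g g.2 ?_
  intro l hl
  have h1 := congrArg Subtype.val (hg ⟨l, hl⟩)
  rw [MulAut.conjNormal_apply] at h1
  exact h1

/-- the order of the offender -/
theorem jcard_le (h : Fw ρ L A) (hJ : Local L) {k : L} (hk : orderOf k = 2) : Nat.card A ≤ 8 := by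
  have h2 : IsPGroup 2 A := fun a => ⟨1, by
    rw [pow_one, pow_two]; exact Subtype.ext (h.sq a a.2)⟩
  obtain ⟨n, hn⟩ := IsPGroup.iff_card.1 h2
  have h3 : Nat.card A ∣ Nat.card L := Subgroup.card_dvd_of_le (jle_L h hJ hk)
  have h4 : n ≤ 3 := by
    by_contra hlt
    apply hJ.two
    refine Dvd.dvd.trans ?_ h3
    rw [hn]
    exact pow_dvd_pow 2 (show 4 ≤ n by omega)
  rw [hn]
  exact Nat.pow_le_pow_right (by norm_num) h4

/-- **groups with the local structure of `J₁` have no best offenders** -/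
theorem jmain (h : Fw ρ L A) (hV : ∀ v : V, v * v = 1) (hJ : Local L) {k : L} (hk : orderOf k = 2) : False := by
  obtain ⟨⟨a, ha⟩, ha1'⟩ := Subgroup.ne_bot_iff_exists_ne_one.1 h.ne
  have ha1 : a ≠ 1 := fun h => ha1' (Subtype.ext h)
  have haL := jle_L h hJ hk ha
  obtain ⟨w, y, hy, hw, hw1, hwy⟩ := exists_real hJ hk
  have hao : orderOf (⟨a, haL⟩ : L) = 2 :=
    JInner.two_of_sq (Subtype.ext (h.sq a ha)) fun h1 => ha1 (congrArg Subtype.val h1)
  obtain ⟨g, hg⟩ := hJ.conj _ _ hao (JInner.two_of_sq hw hw1)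
  have hgw : (g : H) * a * (g : H)⁻¹ = (w : H) := congrArg Subtype.val hg
  have hyH : orderOf (y : H) = 11 := by rw [Subgroup.orderOf_coe, hy]
  have hy1 : (y : H) ≠ 1 := by
    intro h1
    rw [h1, orderOf_one] at hyH
    omega
  have h1 : 2 ^ 5 ≤ (fx ρ (w : H)).index := by
    refine le_index (a := (w : H)) (y := (y : H)) hV (l := 11) (by norm_num) (by norm_num) hyH
      (h.faithL _ y.2 hy1) ?_ ten_le
    exact congrArg Subtype.val hwy
  rw [← hgw, index_fx_conj] at h1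
  have h3 := h.idx a ha
  have h4 := jcard_le h hJ hk
  omega

end jone

end Cfsg.Agent.OddCyclic.ClaimC.WJ
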