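import Cfsg.Agent.OddCyclic.FFPsl
import Cfsg.Agent.OddCyclic.ClaimC.WDefs

/-!
# Weak offenders: `PSL₂(p)`
-/

set_option autoImplicit false
set_option linter.unusedSectionVars false

namespace Cfsg.Agent.OddCyclic.ClaimC.WPsl

open Matrix Cfsg.Agent.Lib.SL2Mat Cfsg.Agent.OddCyclic.T1Module Cfsg.Agent.OddCyclic.FFBasic
  Cfsg.Agent.OddCyclic.FFRed Cfsg.Agent.OddCyclic.FFSl2 Cfsg.Agent.OddCyclic.FFPslMat Cfsg.Agent.OddCyclic.PGLTorus
  Cfsg.Agent.OddCyclic.T1Defs Cfsg.Agent.OddCyclic.FFPsl Cfsg.Agent.OddCyclic.ClaimC.WDefs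

section psl

variable {H : Type*} [Group H] [Finite H] {V : Type*} [CommGroup V] [Finite V] {ρ : H →* MulAut V}
variable {L A : Subgroup H} [L.Normal] {F : Type*} [Field F] [Finite F] (R : Cfsg.Agent.GH.L2Aut.Rep F L)

local notation "ψ" => (MulAut.conjNormal (H := L))

theorem psi_ne (h : Fw ρ L A) {a : H} (ha : a ∈ A) (ha1 : a ≠ 1) : ψ a ≠ 1 := by
  intro h1
  apply ha1
  apply h.faithA a ha
  intro l hl
  have h2 := congrArg (fun α : MulAut L => ((α ⟨l, hl⟩ : L) : H)) h1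
  simp only [MulAut.conjNormal_apply, MulAut.one_apply] at h2
  exact mul_inv_eq_iff_eq_mul.1 h2

theorem psi_sq (h : Fw ρ L A) {a : H} (ha : a ∈ A) : ψ a * ψ a = 1 := by
  rw [← map_mul, h.sq a ha, map_one]

/-- the matrix of `a ∈ A` -/
theorem exists_mat (h : Fw ρ L A) (hF : (Nat.card F).Prime) {a : H} (ha : a ∈ A) (ha1 : a ≠ 1) :
    ∃ γ : GL (Fin 2) F, γ.1.trace = 0 ∧ R.gl γ = ψ a := by
  obtain ⟨γ, hγ⟩ := R.mem_PGL.1 (mem_PGL_of_prime R hF (ψ a))
  refine ⟨γ, ?_, hγ.symm⟩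
  apply trace_of_sq R
  · rw [← hγ]; exact psi_ne h ha ha1
  · rw [← hγ]; exact psi_sq h ha

/-- the matrices of two different elements are orthogonal -/
theorem orth (h : Fw ρ L A) {a b : H} (ha : a ∈ A) (hb : b ∈ A) (hab : a * b ≠ 1) {γ δ : GL (Fin 2) F}
    (hγ : R.gl γ = ψ a) (hδ : R.gl δ = ψ b) : (γ.1 * δ.1).trace = 0 := by
  have h1 : R.gl (γ * δ) = ψ (a * b) := by rw [map_mul, map_mul, hγ, hδ]
  have h2 := trace_of_sq R (g := γ * δ) (by rw [h1]; exact psi_ne h (mul_mem ha hb) hab)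
    (by rw [h1]; exact psi_sq h (mul_mem ha hb))
  exact h2

include R in
theorem card_le_four (h : Fw ρ L A) (hF : (Nat.card F).Prime) : Nat.card A ≤ 4 := by
  by_contra hcon
  push Not at hcon
  obtain ⟨a, ha, ha1, -, -, -⟩ := JInner.exists_notin A hcon 1 1 1 1
  obtain ⟨b, hb, hb1, hba, -, -⟩ := JInner.exists_notin A hcon 1 a 1 1
  obtain ⟨c, hc, hc1, hca, hcb, hcab⟩ := JInner.exists_notin A hcon 1 a b (a * b)
  have hinv : ∀ x ∈ A, x⁻¹ = x := fun x hx => inv_eq_of_mul_eq_one_left (h.sq x hx)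
  have hne : ∀ x ∈ A, ∀ y ∈ A, x ≠ y → x * y ≠ 1 := by
    intro x hx y hy hxy h1
    apply hxy
    rw [← hinv x hx]
    exact (eq_inv_of_mul_eq_one_right h1).symm ▸ rfl
  obtain ⟨γ, hγ0, hγ⟩ := exists_mat R h hF ha ha1
  obtain ⟨δ, hδ0, hδ⟩ := exists_mat R h hF hb hb1
  obtain ⟨ε, hε0, hε⟩ := exists_mat R h hF hc hc1
  have h1 := orth R h ha hb (hne a ha b hb hba.symm) hγ hδ
  have h2 := orth R h ha hc (hne a ha c hc hca.symm) hγ hε
  have h3 := orth R h hb hc (hne b hb c hc hcb.symm) hδ hε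
  have h4 := orth R h (mul_mem ha hb) hc (hne (a * b) (mul_mem ha hb) c hc hcab.symm)
    (γ := γ * δ) (δ := ε) (by rw [map_mul, map_mul, hγ, hδ]) hε
  exact no_three hγ0 hδ0 hε0 h1 h2 h3 h4 R.two

theorem mem_of_isSquare (h : Fw ρ L A) {a : H} (ha : a ∈ A) {γ : GL (Fin 2) F} (hγ : R.gl γ = ψ a)
    (hs : IsSquare γ.1.det) : a ∈ L := by
  obtain ⟨y, hy⟩ := R.gl_mem_inn.2 hs
  apply h.inn a ha y y.2
  intro l hl
  rw [hγ] at hy
  have h1 := congrArg (fun α : MulAut L => ((α ⟨l, hl⟩ : L) : H)) hy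
  simp only [MulAut.conjNormal_apply, MulAut.conj_apply] at h1
  exact h1.symm

/-- no split involution -/
theorem not_split (h : Fw ρ L A) (hV : ∀ v : V, v * v = 1) (hF : (Nat.card F).Prime) (h7 : 7 ≤ Nat.card F) {a : H}
    (ha : a ∈ A) {γ : GL (Fin 2) F} (hγ0 : γ.1.trace = 0) (hγ : R.gl γ = ψ a) (hi : (fx ρ a).index ≤ 4) :
    ¬ IsSquare (-γ.1.det) := by
  rintro ⟨s, hs⟩
  obtain ⟨u, hu1, hup, hui⟩ := split_inv R hγ0 hs.symm
  have hch := charP hF
  have hfact : Fact (Nat.card F).Prime := ⟨hF⟩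
  have h1 := hup (Nat.card F) (CharP.cast_eq_zero F (Nat.card F))
  have h2 : orderOf ((R.π u : L) : H) = Nat.card F := by
    rw [Subgroup.orderOf_coe]
    exact orderOf_eq_prime (by rw [← map_pow, h1, map_one]) hu1
  rw [hγ] at hui
  have h3 := conj_of_psi hui
  have h4 : ((R.π u : L) : H) ≠ 1 := fun h => hu1 (Subtype.ext h)
  rcases (small hV (h.sq a ha) hF (by omega) h2 (h.faithL _ (R.π u).2 h4) h3 hi).1 with h5 | h5 <;> omega

theorem index_le_four (h : Fw ρ L A) (R : Cfsg.Agent.GH.L2Aut.Rep F L) (hF : (Nat.card F).Prime) {a : H} (ha : a ∈ A) :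
    (fx ρ a).index ≤ 4 :=
  (h.idx a ha).trans (card_le_four R h hF)

include R in
/-- `A ≤ L` -/
theorem le_L (h : Fw ρ L A) (hV : ∀ v : V, v * v = 1) (hc : OddCyc H) (hF : (Nat.card F).Prime)
    (h7 : 7 ≤ Nat.card F) : A ≤ L := by
  intro a ha
  by_contra haL
  have ha1 : a ≠ 1 := fun h1 => haL (h1 ▸ one_mem L)
  have h3F : (3 : F) ≠ 0 := three_ne hF h7
  have h2F := R.two
  have hsplit : ∀ b ∈ A, ∀ γ : GL (Fin 2) F, γ.1.trace = 0 → R.gl γ = ψ b → ¬ IsSquare (-γ.1.det) :=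
    fun b hb γ h0 h1 => not_split R h hV hF h7 hb h0 h1 (index_le_four h R hF hb)
  obtain ⟨γ, hγ0, hγ⟩ := exists_mat R h hF ha ha1
  have hns := hsplit a ha γ hγ0 hγ
  have hnd : ¬ IsSquare γ.1.det := fun hs => haL (mem_of_isSquare R h ha hγ hs)
  have hm1 : IsSquare (-1 : F) := by
    obtain ⟨s, hs⟩ := Cfsg.Agent.GH.L2Aut.isSquare_mul_of_not hns hnd
    refine ⟨s / γ.1.det, ?_⟩
    have hd := det_ne γ
    field_simp
    linear_combination hs
  have hneg : ∀ x : F, IsSquare (-x) ↔ IsSquare x := by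
    obtain ⟨i, hi⟩ := hm1
    intro x
    constructor
    · rintro ⟨s, hs⟩
      exact ⟨i * s, by linear_combination -hs + s * s * hi⟩
    · rintro ⟨s, hs⟩
      exact ⟨i * s, by linear_combination -hs + s * s * hi⟩
  have hA2 : ∀ b ∈ A, b = 1 ∨ b = a := by
    intro b hb
    by_contra hcon
    push Not at hcon
    obtain ⟨δ, hδ0, hδ⟩ := exists_mat R h hF hb hcon.1
    have h1 := hsplit b hb δ hδ0 hδ
    have hab : a * b ≠ 1 := by
      intro h2
      apply hcon.2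
      have h3 := eq_inv_of_mul_eq_one_right h2
      rw [h3]
      exact inv_eq_of_mul_eq_one_left (h.sq a ha)
    have h2 := hsplit (a * b) (mul_mem ha hb) (γ * δ) (orth R h ha hb hab hγ hδ)
      (by rw [map_mul, map_mul, hγ, hδ])
    rw [hneg] at h1 h2
    apply h2
    have h3 : (γ * δ).1.det = γ.1.det * δ.1.det := by rw [Units.val_mul, Matrix.det_mul]
    rw [h3]
    exact Cfsg.Agent.GH.L2Aut.isSquare_mul_of_not hnd h1
  have hi2 : (fx ρ a).index ≤ 2 :=
    (h.idx a ha).trans (card_le_two_of hA2)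
  obtain ⟨y, hyL, hy3, hay⟩ := exists_three R h3F hγ0 hγ
  have hiy : (fx ρ y).index ≤ 4 := (half' ρ (by rw [hy3]; decide) hay).trans (Nat.pow_le_pow_left hi2 2)
  have hall : ∀ z : H, orderOf z = 3 → (fx ρ z).index ≤ 4 := fun z hz => by
    rw [← index_eq_of_orderOf ρ hc Nat.prime_three (by norm_num) hy3 hz]; exact hiy
  -- the transvection is a product of two elements of order three
  have hdz : (0 : F) * 1 - (-(1 / 2)) * 2 = 1 := by field_simp; ring
  have hdz' : (-1 : F) * 2 - (-(3 / 2)) * 2 = 1 := by field_simp; ring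
  let z : Matrix.SpecialLinearGroup (Fin 2) F := mk 0 (-(1 / 2)) 2 1 hdz
  let z' : Matrix.SpecialLinearGroup (Fin 2) F := mk (-1) (-(3 / 2)) 2 2 hdz'
  have hz : orderOf ((R.π z : L) : H) = 3 := orderOf_three R h3F (by simp only [z, mk_00, mk_11]; ring)
  have hz' : orderOf ((R.π z' : L) : H) = 3 := orderOf_three R h3F (by simp only [z', mk_00, mk_11]; ring)
  have hzz : z * z' = -up 1 := by
    refine ext_ent ?_ ?_ ?_ ?_
    · rw [ent_mul]; show 0 * (-1) + (-(1 / 2)) * 2 = -(1 : F); field_simp; ring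
    · rw [ent_mul]; show 0 * (-(3 / 2)) + (-(1 / 2)) * 2 = -(1 : F); field_simp; ring
    · rw [ent_mul]; show 2 * (-1) + 1 * 2 = -(0 : F); ring
    · rw [ent_mul]; show 2 * (-(3 / 2)) + 1 * 2 = -(1 : F); field_simp; ring
  have hu : ((R.π (up 1) : L) : H) = (R.π z : L) * (R.π z' : L) := by
    rw [← Subgroup.coe_mul, ← map_mul, hzz, R.π_neg]
  have hiu : (fx ρ ((R.π (up 1) : L) : H)).index ≤ 16 := by
    rw [hu]
    exact (index_mul_le ρ _ _).trans (Nat.mul_le_mul (hall _ hz) (hall _ hz'))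
  have hou := orderOf_u R hF
  have hune : ((R.π (up 1) : L) : H) ≠ 1 := by
    intro h1
    rw [h1, orderOf_one] at hou
    omega
  obtain ⟨d, hd, hd1, hd2⟩ := prim (ρ := ρ) hV hF (by omega) hou (h.faithL _ (R.π (up 1)).2 hune)
  have hd4 : d ≤ 4 := by
    rw [hd1] at hiu
    have : (2 : ℕ) ^ d ≤ 2 ^ 4 := hiu
    exact (Nat.pow_le_pow_iff_right (by norm_num)).1 this
  have h7' : Nat.card F = 7 := by
    have h15 : Nat.card F ≤ 15 := by
      have h1 := Nat.le_of_dvd (by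
        have : 2 ^ 1 ≤ 2 ^ d := Nat.pow_le_pow_right (by norm_num) hd
        omega) hd2
      have : (2 : ℕ) ^ d ≤ 2 ^ 4 := Nat.pow_le_pow_right (by norm_num) hd4
      omega
    have hpr := hF
    generalize Nat.card F = n at *
    interval_cases d <;> interval_cases n <;> first | rfl | (exfalso; revert hd2 hpr; decide)
  -- `-1` is not a square modulo 7
  have := Fintype.ofFinite F
  have h4 := FiniteField.isSquare_neg_one_iff.1 hm1
  rw [← Nat.card_eq_fintype_card, h7'] at h4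
  exact h4 rfl

include R in
/-- `p = 7` -/
theorem seven (h : Fw ρ L A) (hV : ∀ v : V, v * v = 1) (hc : OddCyc H) (hF : (Nat.card F).Prime)
    (h7 : 7 ≤ Nat.card F) : Nat.card F = 7 := by
  have hAL := le_L R h hV hc hF h7
  have h3F : (3 : F) ≠ 0 := three_ne hF h7
  obtain ⟨⟨a, ha⟩, ha1'⟩ := Subgroup.ne_bot_iff_exists_ne_one.1 h.ne
  have ha1 : a ≠ 1 := fun h => ha1' (Subtype.ext h)
  have haL := hAL ha
  obtain ⟨γ, hγ0, hγ⟩ := exists_mat R h hF ha ha1
  have hi := index_le_four h R hF ha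
  obtain ⟨y, hyL, hy3, hay⟩ := exists_three R h3F hγ0 hγ
  have hiy : (fx ρ y).index ≤ 16 := (half' ρ (by rw [hy3]; decide) hay).trans (Nat.pow_le_pow_left hi 2)
  have hall : ∀ z : H, orderOf z = 3 → (fx ρ z).index ≤ 16 := fun z hz => by
    rw [← index_eq_of_orderOf ρ hc Nat.prime_three (by norm_num) hy3 hz]; exact hiy
  -- the involution `w`
  let w : L := R.π (Cfsg.Agent.Lib.PSL2Torus.jm F)
  have hj : Cfsg.Agent.Lib.PSL2Torus.jm F * Cfsg.Agent.Lib.PSL2Torus.jm F = -1 := by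
    refine ext_ent ?_ ?_ ?_ ?_
    · rw [ent_mul]; show 0 * 0 + (-1) * 1 = -(1 : F); ring
    · rw [ent_mul]; show 0 * (-1) + (-1) * 0 = -(0 : F); ring
    · rw [ent_mul]; show 1 * 0 + 0 * 1 = -(0 : F); ring
    · rw [ent_mul]; show 1 * (-1) + 0 * 0 = -(1 : F); ring
  have hw2 : w * w = 1 := by
    show R.π _ * R.π _ = 1
    rw [← map_mul, hj, R.ker]
    exact Or.inr rfl
  have hw1 : w ≠ 1 := by
    intro h1
    have h2 : R.π (Cfsg.Agent.Lib.PSL2Torus.jm F) = 1 := h1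
    rw [R.ker] at h2
    rcases h2 with h2 | h2
    · have := congrArg (fun w => ent w 1 0) h2
      simp only [Cfsg.Agent.Lib.PSL2Torus.jm_10, ent_one_10] at this
      exact one_ne_zero this
    · have h3 : (1 : F) = -0 := congrArg (fun w => ent w 1 0) h2
      rw [neg_zero] at h3
      exact one_ne_zero h3
  obtain ⟨g, hg⟩ := Cfsg.Agent.Lib.PSL2Torus.conj_inv_hom R.π R.two R.surj R.ker
    (t := (⟨a, haL⟩ : L)) (u := w) (fun h1 => ha1 (congrArg Subtype.val h1)) (Subtype.ext (h.sq a ha)) hw1 hw2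
  have hgw : (g : H) * a * (g : H)⁻¹ = (w : H) := congrArg Subtype.val hg
  have hiw : (fx ρ (w : H)).index ≤ 4 := by
    rw [← hgw, index_fx_conj]; exact hi
  have hz : orderOf ((R.π (up 1 * Cfsg.Agent.Lib.PSL2Torus.jm F) : L) : H) = 3 := by
    apply orderOf_three R h3F
    rw [ent_mul, ent_mul]
    show (1 : F) * 0 + 1 * 1 + (0 * (-1) + 1 * 0) = 1
    ring
  have hu : ((R.π (up 1) : L) : H) = (R.π (up 1 * Cfsg.Agent.Lib.PSL2Torus.jm F) : L) * (w : H) := by
    have h1 : R.π (up 1) = R.π (up 1 * Cfsg.Agent.Lib.PSL2Torus.jm F) * w := by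
      rw [map_mul, mul_assoc]
      show R.π (up 1) = R.π (up 1) * (w * w)
      rw [hw2, mul_one]
    rw [h1]; rfl
  have hiu : (fx ρ ((R.π (up 1) : L) : H)).index ≤ 64 := by
    rw [hu]
    exact (index_mul_le ρ _ _).trans (Nat.mul_le_mul (hall _ hz) hiw)
  have hou := orderOf_u R hF
  have hune : ((R.π (up 1) : L) : H) ≠ 1 := by
    intro h1
    rw [h1, orderOf_one] at hou
    omega
  obtain ⟨d, hd, hd1, hd2⟩ := prim (ρ := ρ) hV hF (by omega) hou (h.faithL _ (R.π (up 1)).2 hune)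
  have hd6 : d ≤ 6 := by
    rw [hd1] at hiu
    have : (2 : ℕ) ^ d ≤ 2 ^ 6 := hiu
    exact (Nat.pow_le_pow_iff_right (by norm_num)).1 this
  have h731 : Nat.card F = 7 ∨ Nat.card F = 31 := by
    have h63 : Nat.card F ≤ 63 := by
      have h1 := Nat.le_of_dvd (by
        have : 2 ^ 1 ≤ 2 ^ d := Nat.pow_le_pow_right (by norm_num) hd
        omega) hd2
      have : (2 : ℕ) ^ d ≤ 2 ^ 6 := Nat.pow_le_pow_right (by norm_num) hd6
      omega
    have hpr := hF
    clear hiu hd1 hou h3F hF hune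
    generalize Nat.card F = n at *
    interval_cases d <;> interval_cases n <;> first | omega | (exfalso; revert hpr; norm_num)
  rcases h731 with h1 | h1
  · exact h1
  · exfalso
    obtain ⟨y, hyL, hy15, hay⟩ := exists_fifteen R h1 hγ0 hγ
    refine kill15 hV hy15 hay ?_ ?_ hi
    · apply h.faithL _ (pow_mem hyL 3)
      intro h2
      have := orderOf_dvd_of_pow_eq_one h2
      rw [hy15] at this
      norm_num at this
    · apply h.faithL _ (pow_mem hyL 5)
      intro h2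
      have := orderOf_dvd_of_pow_eq_one h2
      rw [hy15] at this
      norm_num at this

end psl

end Cfsg.Agent.OddCyclic.ClaimC.WPsl
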