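import Cfsg.Agent.OddCyclic.ClaimC.Basic
import Cfsg.Agent.OddCyclic.EmptyY.Blk

/-!
# CLAIM C: the transfer argument and Lemma N
-/

set_option autoImplicit false
set_option linter.unusedSectionVars false

namespace Cfsg.Agent.OddCyclic.ClaimC.LemN

open Cfsg.Agent.OddCyclic.T1Module Cfsg.Agent.OddCyclic.FFBasic Cfsg.Agent.OddCyclic.T1Defs
  Cfsg.Agent.OddCyclic.FFRed Cfsg.Agent.OddCyclic.FFSl2 Cfsg.Agent.OddCyclic.ClaimC.Defs
  Cfsg.Agent.OddCyclic.ClaimC.Basic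
open Cfsg.Agent.OddCyclic.PumpMain (KZero)

section general

variable {H : Type*} [Group H] {V : Type*} [CommGroup V] {ρ : H →* MulAut V}

/-- transfer: a fixed vector of a subgroup of odd index -/
theorem exists_fixed [Finite H] {K P : Subgroup H} (hodd : ¬ 2 ∣ P.relIndex K) (hV : ∀ v : V, v * v = 1)
    {w : V} (hw : w ∈ CS ρ P) {W : Subgroup V} (hW : ∀ k ∈ K, cm ρ k w ∈ W) : ∃ u ∈ CS ρ K, u * w ∈ W := by
  classical
  have : Fintype (K ⧸ P.subgroupOf K) := Fintype.ofFinite _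
  let f : K ⧸ P.subgroupOf K → V := Quotient.lift (fun k : K => ρ (k : H) w) (by
    intro k l hkl
    have h1 : k⁻¹ * l ∈ P.subgroupOf K := QuotientGroup.leftRel_apply.1 hkl
    rw [Subgroup.mem_subgroupOf] at h1
    have h2 := hw _ h1
    have h3 : (l : H) = (k : H) * ((k⁻¹ * l : K) : H) := by
      rw [Subgroup.coe_mul, Subgroup.coe_inv, mul_inv_cancel_left]
    change ρ (k : H) w = ρ (l : H) w
    rw [h3, map_mul, MulAut.mul_apply, h2])
  have hf : ∀ k : K, f (QuotientGroup.mk k) = ρ (k : H) w := fun k => rfl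
  have hfs : ∀ (g : K) (q : K ⧸ P.subgroupOf K), f (g • q) = ρ (g : H) (f q) := by
    intro g q
    refine QuotientGroup.induction_on q fun k => ?_
    have h1 : g • (QuotientGroup.mk k : K ⧸ P.subgroupOf K) = QuotientGroup.mk (g * k) := rfl
    rw [h1, hf, hf, Subgroup.coe_mul, map_mul, MulAut.mul_apply]
  refine ⟨∏ q, f q, ?_, ?_⟩
  · intro g hg
    rw [map_prod]
    have h1 : ∀ q, ρ g (f q) = f ((⟨g, hg⟩ : K) • q) := fun q => (hfs ⟨g, hg⟩ q).symm
    rw [Finset.prod_congr rfl fun q _ => h1 q]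
    exact Fintype.prod_equiv (MulAction.toPerm (⟨g, hg⟩ : K)) _ _ fun q => rfl
  · have h1 : ∀ q, f q * w ∈ W := by
      intro q
      refine QuotientGroup.induction_on q fun k => ?_
      have h2 := hW k k.2
      have h3 : w⁻¹ = w := inv_eq_of_mul_eq_one_left (hV w)
      rw [cm_apply, h3] at h2
      exact h2
    have h2 : ∏ q, (f q * w) ∈ W := Subgroup.prod_mem _ fun q _ => h1 q
    rw [Finset.prod_mul_distrib, Finset.prod_const, Finset.card_univ] at h2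
    have h3 : Odd (Fintype.card (K ⧸ P.subgroupOf K)) := by
      rw [← Nat.not_even_iff_odd, even_iff_two_dvd, ← Nat.card_eq_fintype_card]
      exact hodd
    obtain ⟨k, hk⟩ := h3
    rw [hk, pow_succ, pow_mul, pow_two w, hV, one_pow, one_mul] at h2
    exact h2

theorem cm_conj (n a : H) (b : V) : cm ρ (n * a * n⁻¹) b = ρ n (cm ρ a (ρ n⁻¹ b)) := by
  have h1 : ρ n (ρ n⁻¹ b) = b := by
    rw [← MulAut.mul_apply, ← map_mul, mul_inv_cancel, map_one]; rfl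
  rw [cm_apply, cm_apply, map_mul, map_mul, MulAut.mul_apply, MulAut.mul_apply, map_mul (ρ n), map_inv (ρ n), h1]

theorem cm_inv' (a : H) (b : V) : cm ρ a⁻¹ b = (ρ a⁻¹ (cm ρ a b))⁻¹ := by
  have h1 : ρ a⁻¹ (ρ a b) = b := by
    rw [← MulAut.mul_apply, ← map_mul, inv_mul_cancel, map_one]; rfl
  rw [cm_apply, cm_apply, map_mul (ρ a⁻¹), h1, map_inv (ρ a⁻¹) b, mul_inv, inv_inv, mul_comm]

theorem cm_mul' (a b : H) (v : V) : cm ρ (a * b) v = cm ρ a (ρ b v) * cm ρ b v := by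
  rw [cm_apply, cm_apply, cm_apply, map_mul, MulAut.mul_apply, mul_assoc, inv_mul_cancel_left]

theorem cancel (a : H) (u : V) : ρ a (ρ a⁻¹ u) = u := by
  rw [← MulAut.mul_apply, ← map_mul, mul_inv_cancel, map_one]; rfl

theorem cancel' (a : H) (u : V) : ρ a⁻¹ (ρ a u) = u := by
  rw [← MulAut.mul_apply, ← map_mul, inv_mul_cancel, map_one]; rfl

/-- the elements acting trivially on `B / A` -/
def TR (ρ : H →* MulAut V) (A B : Subgroup V) : Subgroup H where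
  carrier := {g | (∀ u, ρ g u ∈ A ↔ u ∈ A) ∧ (∀ u, ρ g u ∈ B ↔ u ∈ B) ∧ ∀ b ∈ B, cm ρ g b ∈ A}
  mul_mem' := by
    rintro a b ⟨a1, a2, a3⟩ ⟨b1, b2, b3⟩
    refine ⟨fun u => ?_, fun u => ?_, fun v hv => ?_⟩
    · rw [map_mul, MulAut.mul_apply, a1, b1]
    · rw [map_mul, MulAut.mul_apply, a2, b2]
    · rw [cm_mul']
      exact mul_mem (a3 _ ((b2 v).2 hv)) (b3 v hv)
  one_mem' := ⟨fun u => by rw [map_one]; rfl, fun u => by rw [map_one]; rfl, fun b _ => by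
    rw [cm_one]; exact one_mem A⟩
  inv_mem' := by
    rintro a ⟨a1, a2, a3⟩
    refine ⟨fun u => ?_, fun u => ?_, fun v hv => ?_⟩
    · rw [← a1, cancel]
    · rw [← a2, cancel]
    · rw [cm_inv']
      apply inv_mem
      rw [← a1, cancel]
      exact a3 v hv

theorem mem_TR {A B : Subgroup V} {g : H} : g ∈ TR ρ A B ↔
    (∀ u, ρ g u ∈ A ↔ u ∈ A) ∧ (∀ u, ρ g u ∈ B ↔ u ∈ B) ∧ ∀ b ∈ B, cm ρ g b ∈ A := Iff.rfl

/-- a subgroup stable under a subgroup -/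
def Inv (ρ : H →* MulAut V) (N : Subgroup H) (A : Subgroup V) : Prop := ∀ n ∈ N, ∀ u ∈ A, ρ n u ∈ A

theorem Inv.iff {N : Subgroup H} {A : Subgroup V} (h : Inv ρ N A) {n : H} (hn : n ∈ N) (u : V) :
    ρ n u ∈ A ↔ u ∈ A := by
  refine ⟨fun h1 => ?_, h n hn u⟩
  have := h _ (inv_mem hn) _ h1
  rwa [cancel'] at this

theorem Inv.cm {N : Subgroup H} {A : Subgroup V} (h : Inv ρ N A) {n : H} (hn : n ∈ N) {u : V} (hu : u ∈ A) :
    cm ρ n u ∈ A := by
  rw [cm_apply]; exact mul_mem (h n hn u hu) (inv_mem hu)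

theorem inv_of_cm {N : Subgroup H} {A : Subgroup V} (h : ∀ n ∈ N, ∀ u ∈ A, FFBasic.cm ρ n u ∈ A) : Inv ρ N A := by
  intro n hn u hu
  rw [apply_eq]
  exact mul_mem (h n hn u hu) hu

/-- `N = [N, E]` and `N` is generated by squares -/
structure Nice (N E : Subgroup H) : Prop where
  com : N ≤ ⁅E, N⁆
  sqs : N ≤ Subgroup.closure {g | ∃ n ∈ N, g = n * n}

theorem triv {N E : Subgroup H} (hN : Nice N E) {A B : Subgroup V} (hA : Inv ρ N A) (hB : Inv ρ N B)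
    (hAE : Inv ρ E A) (hBE : Inv ρ E B) (ht : ∀ a ∈ E, ∀ b ∈ B, cm ρ a b ∈ A) : ∀ n ∈ N, ∀ b ∈ B, cm ρ n b ∈ A := by
  have h1 : ⁅E, N⁆ ≤ TR ρ A B := by
    rw [Subgroup.commutator_le]
    intro a ha n hn
    rw [commutatorElement_def]
    have h2 : a * n * a⁻¹ * n⁻¹ = a * (n * a⁻¹ * n⁻¹) := by group
    rw [h2]
    have haM : a ∈ TR ρ A B := ⟨fun u => hAE.iff ha u, fun u => hBE.iff ha u, ht a ha⟩
    refine mul_mem haM ?_
    have ha' := inv_mem haM
    refine ⟨fun u => ?_, fun u => ?_, fun v hv => ?_⟩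
    · rw [map_mul, map_mul, MulAut.mul_apply, MulAut.mul_apply, hA.iff hn, ha'.1, hA.iff (inv_mem hn)]
    · rw [map_mul, map_mul, MulAut.mul_apply, MulAut.mul_apply, hB.iff hn, ha'.2.1, hB.iff (inv_mem hn)]
    · rw [cm_conj]
      exact hA n hn _ (ha'.2.2 _ (hB _ (inv_mem hn) v hv))
  intro n hn b hb
  exact (h1 (hN.com hn)).2.2 b hb

theorem sq_triv (hV : ∀ v : V, v * v = 1) {N E : Subgroup H} (hN : Nice N E) {A B C : Subgroup V}
    (hA : Inv ρ N A) (hC : Inv ρ N C) (h1 : ∀ n ∈ N, ∀ c ∈ C, cm ρ n c ∈ B)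
    (h2 : ∀ n ∈ N, ∀ b ∈ B, cm ρ n b ∈ A) : ∀ n ∈ N, ∀ c ∈ C, cm ρ n c ∈ A := by
  have h3 : Subgroup.closure {g | ∃ n ∈ N, g = n * n} ≤ TR ρ A C := by
    rw [Subgroup.closure_le]
    rintro _ ⟨n, hn, rfl⟩
    refine ⟨fun u => hA.iff (mul_mem hn hn) u, fun u => hC.iff (mul_mem hn hn) u, fun v hv => ?_⟩
    rw [cm_mul, mul_assoc, hV, mul_one]
    exact h2 n hn _ (h1 n hn v hv)
  intro n hn c hc
  exact (h3 (hN.sqs hn)).2.2 c hc

/-- the largest `N`-invariant subgroup of `D` -/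
def cr (ρ : H →* MulAut V) (N : Subgroup H) (D : Subgroup V) : Subgroup V where
  carrier := {v | ∀ n ∈ N, ρ n v ∈ D}
  mul_mem' := fun {u v} hu hv n hn => by rw [map_mul]; exact mul_mem (hu n hn) (hv n hn)
  one_mem' := fun n _ => by rw [map_one]; exact one_mem D
  inv_mem' := fun {u} hu n hn => by rw [map_inv]; exact inv_mem (hu n hn)

theorem mem_cr {N : Subgroup H} {D : Subgroup V} {v : V} : v ∈ cr ρ N D ↔ ∀ n ∈ N, ρ n v ∈ D := Iff.rfl

theorem cr_le {N : Subgroup H} {D : Subgroup V} : cr ρ N D ≤ D := by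
  intro v hv
  have := hv 1 (one_mem N)
  rwa [map_one] at this

theorem cr_inv {N : Subgroup H} {D : Subgroup V} : Inv ρ N (cr ρ N D) := by
  intro n hn u hu m hm
  rw [← MulAut.mul_apply, ← map_mul]
  exact hu _ (mul_mem hm hn)

theorem le_cr {N : Subgroup H} {D A : Subgroup V} (hA : Inv ρ N A) (h : A ≤ D) : A ≤ cr ρ N D :=
  fun u hu n hn => h (hA n hn u hu)

theorem CS_inv {N : Subgroup H} [N.Normal] : ∀ g, ∀ u ∈ CS ρ N, ρ g u ∈ CS ρ N := by
  intro g u hu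
  refine CS_stable ?_ hu
  rw [Subgroup.normalizer_eq_top]; trivial

end general

variable {H : Type*} [Group H] [Finite H] {V : Type*} [CommGroup V] [Finite V] {ρ : H →* MulAut V}
  {S : Sylow 2 H} {E : Subgroup H} {R D : Subgroup V}

namespace Cl

variable (h : Cl ρ S E R D)
include h

theorem D_inv : Inv ρ E D := inv_of_cm fun a ha u hu => h.le (h.comm a ha u hu)

/-- **(5)** `V = [V, K] C_V(K)` -/
theorem sup_CS {K : Subgroup H} [K.Normal] {W : Subgroup V} (hWi : ∀ g, ∀ w ∈ W, ρ g w ∈ W)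
    (hW : ∀ k ∈ K, ∀ v, cm ρ k v ∈ W) : W ⊔ CS ρ K = ⊤ := by
  apply h.gen
  · intro g w hw
    rw [Subgroup.mem_sup] at hw ⊢
    obtain ⟨x, hx, y, hy, rfl⟩ := hw
    exact ⟨ρ g x, hWi g x hx, ρ g y, CS_inv g y hy, (map_mul _ _ _).symm⟩
  · intro w hw
    have h2 : ¬ 2 ∣ (S : Subgroup H).relIndex K := by
      rw [← EmptyY.Blk.relIndex_sup' (S : Subgroup H) K]
      intro h3
      have h4 : ((S : Subgroup H)).relIndex ((S : Subgroup H) ⊔ K) ∣ (S : Subgroup H).index :=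
        ⟨_, (Subgroup.relIndex_mul_index le_sup_left).symm⟩
      exact S.not_dvd_index (h3.trans h4)
    obtain ⟨u, hu, huw⟩ := exists_fixed h2 h.sqV hw (W := W) (fun k hk => hW k hk w)
    have h3 : w = u * w * u⁻¹ := by rw [mul_comm u w, mul_inv_cancel_right]
    rw [h3]
    have h4 : u ∈ W ⊔ CS ρ K := Subgroup.mem_sup_right hu
    have h5 : u * w ∈ W ⊔ CS ρ K := Subgroup.mem_sup_left huw
    exact (W ⊔ CS ρ K).mul_mem h5 ((W ⊔ CS ρ K).inv_mem h4)

theorem faithful {g : H} (hg : ∀ v, cm ρ g v = 1) : g = 1 := by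
  apply h.inj
  rw [map_one]
  ext v
  have := hg v
  rw [cm_apply, mul_inv_eq_one] at this
  rw [this]; rfl

/-- `N` is nontrivial on `V / D₁` -/
theorem not_triv {N : Subgroup H} [N.Normal] (hN : Nice N E) (hN1 : N ≠ ⊥)
    (hE : E ⊓ Subgroup.centralizer (N : Set H) ≠ ⊥) : ∃ n ∈ N, ∃ v, cm ρ n v ∉ cr ρ N D := by
  by_contra hcon
  push Not at hcon
  set E₁ := E ⊓ Subgroup.centralizer (N : Set H) with hE₁
  have hcomm : ∀ e ∈ E₁, ∀ n ∈ N, n * e = e * n := fun e he n hn => (Subgroup.mem_centralizer_iff.1 he.2) n hn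
  have hDN : Inv ρ N D := inv_of_cm fun n hn u _ => cr_le (hcon n hn u)
  -- `C_V(E₁)`
  set A := CS ρ E₁ with hA
  have hAD : A ≤ D := by
    obtain ⟨⟨e, he⟩, he1⟩ := Subgroup.ne_bot_iff_exists_ne_one.1 hE
    exact (CS_le_fx he).trans (Cl.fx_le h he.1 fun h => he1 (Subtype.ext h))
  have hAN : Inv ρ N A := by
    intro n hn u hu e he
    rw [← MulAut.mul_apply, ← map_mul, ← hcomm e he n hn, map_mul, MulAut.mul_apply, hu e he]
  have hAE : Inv ρ E A := by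
    intro n hn u hu e he
    rw [← MulAut.mul_apply, ← map_mul, comm_of_sq h.sq he.1 hn, map_mul, MulAut.mul_apply, hu e he]
  have hRA : R ≤ A := fun r hr e he => h.cent e he.1 r hr
  have h1 := triv hN hAN hDN hAE (Cl.D_inv h) (fun a ha b hb => hRA (h.comm a ha b hb))
  have htop : Inv ρ N (⊤ : Subgroup V) := fun _ _ _ _ => trivial
  have h2 := sq_triv h.sqV hN hAN htop (fun n hn c _ => cr_le (hcon n hn c)) h1
  -- `[V, N]`
  set W : Subgroup V := Subgroup.closure {u | ∃ n ∈ N, ∃ v, u = cm ρ n v} with hW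
  have hWA : W ≤ A := by
    rw [hW, Subgroup.closure_le]
    rintro _ ⟨n, hn, v, rfl⟩
    exact h2 n hn v trivial
  have hWi : ∀ g, ∀ w ∈ W, ρ g w ∈ W := by
    intro g w hw
    have h3 : W ≤ W.comap (ρ g : V ≃* V).toMonoidHom := by
      rw [hW, Subgroup.closure_le]
      rintro _ ⟨n, hn, v, rfl⟩
      apply Subgroup.subset_closure
      refine ⟨g * n * g⁻¹, (inferInstance : N.Normal).conj_mem n hn g, ρ g v, ?_⟩
      rw [cm_conj, cancel']; rfl
    exact h3 hw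
  have h3 := Cl.sup_CS h hWi (fun k hk v => Subgroup.subset_closure ⟨k, hk, v, rfl⟩)
  obtain ⟨v, hv, hvD⟩ : ∃ v ∈ CS ρ N, v ∉ D := by
    by_contra hcon2
    push Not at hcon2
    exact h.lt (top_le_iff.1 (h3 ▸ sup_le (hWA.trans hAD) hcon2))
  have h4 : ∀ b ∈ E, ∀ u ∈ D, cm ρ b u ∈ D ⊓ CS ρ N := by
    intro b hb u hu
    obtain ⟨a, ha, r, hr, rfl⟩ := h.sur v hvD u hu
    refine ⟨h.le (h.comm b hb _ hu), ?_⟩
    rw [map_mul, (mem_fx_iff ρ).1 (Cl.R_le_fx h hb hr), mul_one]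
    have h5 : cm ρ a v ∈ CS ρ N := by
      rw [cm_apply]; exact mul_mem (CS_inv a v hv) (inv_mem hv)
    show cm ρ b (cm ρ a v) ∈ CS ρ N
    rw [cm_apply]; exact mul_mem (CS_inv b _ h5) (inv_mem h5)
  have hiN : Inv ρ N (D ⊓ CS ρ N) := fun n hn u hu => ⟨hDN n hn u hu.1, CS_inv n u hu.2⟩
  have hiE : Inv ρ E (D ⊓ CS ρ N) := fun n hn u hu => ⟨Cl.D_inv h n hn u hu.1, CS_inv n u hu.2⟩
  have h5 := triv hN hiN hDN hiE (Cl.D_inv h) h4
  have hbot : Inv ρ N (⊥ : Subgroup V) := fun n _ u hu => by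
    rw [Subgroup.mem_bot] at hu ⊢
    rw [hu, map_one]
  have h6 := sq_triv h.sqV hN hbot hDN h5 (fun n hn b hb => by
    rw [Subgroup.mem_bot, (mem_fx_iff ρ).1]
    exact hb.2 n hn)
  have h7 := sq_triv h.sqV hN hbot htop (fun n hn c _ => cr_le (hcon n hn c)) h6
  apply hN1
  rw [Subgroup.eq_bot_iff_forall]
  intro n hn
  exact Cl.faithful h fun v => Subgroup.mem_bot.1 (h7 n hn v trivial)

section

variable {N : Subgroup H} [N.Normal]

theorem crE_inv : Inv ρ E (cr ρ N D) := by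
  intro a ha u hu n hn
  have h1 : n * a = a * (a⁻¹ * n * a) := by group
  rw [← MulAut.mul_apply, ← map_mul, h1, map_mul, MulAut.mul_apply]
  apply Cl.D_inv h a ha
  apply hu
  have := (inferInstance : N.Normal).conj_mem n hn a⁻¹
  rwa [inv_inv] at this

variable {e : H} (he : e ∈ E) (hc : ∀ n ∈ N, n * e = e * n)
include he hc

theorem fx_le_cr (he1 : e ≠ 1) : fx ρ e ≤ cr ρ N D := by
  refine le_cr ?_ (Cl.fx_le h he he1)
  intro n hn u hu
  rw [mem_fx] at *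
  rw [← MulAut.mul_apply, ← map_mul, ← hc n hn, map_mul, MulAut.mul_apply, hu]

theorem cm_mem_cr (v : V) : cm ρ e v ∈ cr ρ N D := by
  intro n hn
  have h1 : ρ n (cm ρ e v) = cm ρ e (ρ n v) := by
    rw [cm_apply, cm_apply, map_mul, map_inv, ← MulAut.mul_apply, ← MulAut.mul_apply, ← map_mul, ← map_mul, hc n hn]
  rw [h1]
  exact h.mem e he _

theorem R_le_cr (he1 : e ≠ 1) : R ≤ cr ρ N D := (Cl.R_le_fx h he).trans (Cl.fx_le_cr h he hc he1)

end

theorem relIndex_cr {N : Subgroup H} [N.Normal] (hE : E ⊓ Subgroup.centralizer (N : Set H) ≠ ⊥) :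
    (cr ρ N D).relIndex D ≤ (Subgroup.centralizer (N : Set H)).relIndex E := by
  obtain ⟨⟨e, he⟩, he1⟩ := Subgroup.ne_bot_iff_exists_ne_one.1 hE
  have hR := Cl.R_le_cr h he.1 (N := N) (fun n hn => (Subgroup.mem_centralizer_iff.1 he.2) n hn)
    (fun h => he1 (Subtype.ext h))
  obtain ⟨v, hv⟩ := Cl.exists_notin h
  let C := Subgroup.centralizer (N : Set H)
  have key : ∀ a ∈ E, ∀ b ∈ E, a⁻¹ * b ∈ C → (cm ρ a v)⁻¹ * cm ρ b v ∈ cr ρ N D := by
    intro a ha b hb hab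
    have h1 : b = a * (a⁻¹ * b) := by group
    have h2 := Cl.cm_mul_mem h ha (mul_mem (inv_mem ha) hb) v
    rw [← h1] at h2
    have h3 : cm ρ (a⁻¹ * b) v ∈ cr ρ N D :=
      Cl.cm_mem_cr h (mul_mem (inv_mem ha) hb) (fun n hn => (Subgroup.mem_centralizer_iff.1 hab) n hn) v
    have h4 := mul_mem h3 (hR h2)
    have h5 : cm ρ (a⁻¹ * b) v * ((cm ρ a v * cm ρ (a⁻¹ * b) v)⁻¹ * cm ρ b v) = (cm ρ a v)⁻¹ * cm ρ b v := by
      rw [mul_inv_rev, mul_assoc, mul_inv_cancel_left]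
    rwa [h5] at h4
  let f : E ⧸ C.subgroupOf E → D ⧸ (cr ρ N D).subgroupOf D := Quotient.lift
    (fun a : E => (QuotientGroup.mk ⟨cm ρ (a : H) v, h.mem a a.2 v⟩ : D ⧸ (cr ρ N D).subgroupOf D)) (by
    intro a b hab
    have h1 : a⁻¹ * b ∈ C.subgroupOf E := QuotientGroup.leftRel_apply.1 hab
    apply QuotientGroup.eq.2
    exact key a a.2 b b.2 h1)
  have hf : Function.Surjective f := by
    intro x
    obtain ⟨u, rfl⟩ := QuotientGroup.mk_surjective x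
    obtain ⟨a, ha, r, hr, hu⟩ := h.sur v hv u u.2
    refine ⟨QuotientGroup.mk ⟨a, ha⟩, ?_⟩
    apply QuotientGroup.eq.2
    rw [Subgroup.mem_subgroupOf]
    change (cm ρ a v)⁻¹ * (u : V) ∈ cr ρ N D
    rw [hu, inv_mul_cancel_left]
    exact hR hr
  exact Nat.card_le_card_of_surjective f hf

end Cl

end Cfsg.Agent.OddCyclic.ClaimC.LemN
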