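import Cfsg.Agent.OddCyclic.ClaimC.SzIso
import Cfsg.Agent.OddCyclic.FFSz

/-!
# (R2): involutions of Suzuki groups on modules in characteristic two

`sz`: every involution of `Sz(2^f)` inverts an element of prime order `r`, `r` a primitive prime divisor of
`2^(4f) - 1`; `index_le`: so `|V : C_V(a)| ≥ 2^(2f)`.
-/

set_option autoImplicit false
set_option linter.unusedSectionVars false

namespace Cfsg.Agent.OddCyclic.ClaimC.Sz

open Cfsg.Agent.OddCyclic.T1Module Cfsg.Agent.OddCyclic.FFBasic Cfsg.Agent.OddCyclic.FFRed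
  Cfsg.Agent.OddCyclic.FFSz Cfsg.Agent.OddCyclic.T1SzFacts
open Subgroup

theorem inverts_torus {J : Type*} [Group J] [Finite J] {U : Subgroup J} {k : ℕ} (hk : Odd k) (hcyc : IsCyclic U)
    (hU : Nat.card U = k) (hc : ∀ u ∈ U, u ≠ 1 → centralizer {u} = U)
    (hN : Nat.card (normalizer (U : Set J)) = 4 * k) :
    ∃ t : J, t * t = 1 ∧ t ≠ 1 ∧ ∀ u ∈ U, t * u * t⁻¹ = u⁻¹ := by
  have : Fact (Nat.Prime 2) := ⟨Nat.prime_two⟩
  obtain ⟨t, ht⟩ := exists_prime_orderOf_dvd_card' (G := normalizer (U : Set J)) 2 (by rw [hN]; exact ⟨2 * k, by ring⟩)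
  have ht' : orderOf (t : J) = 2 := by rw [Subgroup.orderOf_coe]; exact ht
  have htt : (t : J) * t = 1 := by rw [← pow_two, ← ht', pow_orderOf_eq_one]
  have ht1 : (t : J) ≠ 1 := by
    intro h
    rw [h, orderOf_one] at ht'
    omega
  have htU : (t : J) ∉ U := by
    intro h
    have h1 : orderOf (⟨t, h⟩ : U) ∣ Nat.card U := orderOf_dvd_natCard _
    rw [← Subgroup.orderOf_coe] at h1
    change orderOf (t : J) ∣ _ at h1
    rw [ht', hU] at h1
    rw [Nat.odd_iff] at hk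
    omega
  have hab : ∀ u ∈ U, ∀ v ∈ U, u * v = v * u := by
    intro u hu v hv
    have : IsMulCommutative U := IsCyclic.isMulCommutative
    exact congrArg Subtype.val (mul_comm' (⟨u, hu⟩ : U) ⟨v, hv⟩)
  refine ⟨t, htt, ht1, fun u hu => ?_⟩
  have hconj : (t : J) * u * (t : J)⁻¹ ∈ U := (mem_normalizer_iff.1 t.2 u).1 hu
  set c := u * ((t : J) * u * (t : J)⁻¹) with hcdef
  have hcU : c ∈ U := mul_mem hu hconj
  have h1 : (t : J) * c = c * t := by
    have h2 : (t : J) * c * (t : J)⁻¹ = ((t : J) * u * (t : J)⁻¹) * u := by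
      have h3 : (t : J)⁻¹ = t := inv_eq_of_mul_eq_one_left htt
      calc (t : J) * c * (t : J)⁻¹ = ((t : J) * u * (t : J)⁻¹) * (((t : J) * t) * u * ((t : J)⁻¹ * (t : J)⁻¹)) := by
            rw [hcdef]; group
        _ = _ := by rw [h3, htt, one_mul, mul_one]
    rw [hab _ hconj _ hu, ← hcdef] at h2
    exact mul_inv_eq_iff_eq_mul.1 h2
  by_contra hne
  have hc1 : c ≠ 1 := by
    intro h
    apply hne
    exact (eq_inv_of_mul_eq_one_right h)
  have h3 : (t : J) ∈ centralizer {c} := mem_centralizer_singleton_iff.2 h1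
  rw [hc c hcU hc1] at h3
  exact htU h3

theorem sz {J : Type*} [Group J] [Finite J] (h : Cfsg.Lie.IsoSuzuki J) :
    ∃ f : ℕ, 3 ≤ f ∧ Odd f ∧ Nat.card J = (2 ^ f) ^ 2 * (2 ^ f - 1) * ((2 ^ f) ^ 2 + 1) ∧
      (∀ A : Subgroup J, (∀ a ∈ A, a * a = 1) → Nat.card A ≤ 2 ^ f) ∧
      ∀ k : J, k * k = 1 → k ≠ 1 → ∃ (r : ℕ) (y : J), r.Prime ∧ r ≠ 2 ∧ orderOf y = r ∧ k * y * k⁻¹ = y⁻¹ ∧
        ∀ d, 0 < d → r ∣ 2 ^ d - 1 → 4 * f ≤ d := by
  classical
  have : Fact (Nat.Prime 2) := ⟨Nat.prime_two⟩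
  have h' := h
  obtain ⟨F, iF, iF', m, hm, hF, ⟨e⟩⟩ := h
  have hcard : Nat.card J = (2 ^ (2 * m + 1)) ^ 2 * (2 ^ (2 * m + 1) - 1) * ((2 ^ (2 * m + 1)) ^ 2 + 1) := by
    rw [Nat.card_congr e.toEquiv]
    exact (Cfsg.Agent.S1163.result hm hF).1
  refine ⟨2 * m + 1, by omega, ⟨m, rfl⟩, hcard, ?_, ?_⟩
  · -- elementary abelian subgroups
    intro A hA
    obtain ⟨P, hP⟩ := (show IsPGroup 2 A from fun a => ⟨1, by
      rw [pow_one, pow_two]; exact Subtype.ext (hA a a.2)⟩).exists_le_sylow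
    have hAZ : A ≤ Zs P := (szMore h' P).elem_le hP hA
    have h1 : Nat.card P = (2 ^ (2 * m + 1)) ^ 2 := by
      have h2 := P.card_eq_multiplicity
      rw [h2, hcard]
      have hodd1 : ¬ 2 ∣ 2 ^ (2 * m + 1) - 1 := by
        have : 2 ∣ 2 ^ (2 * m + 1) := dvd_pow_self 2 (by omega)
        have h0 : 0 < 2 ^ (2 * m + 1) := by positivity
        omega
      have hodd2 : ¬ 2 ∣ (2 ^ (2 * m + 1)) ^ 2 + 1 := by
        have : 2 ∣ (2 ^ (2 * m + 1)) ^ 2 := dvd_pow (dvd_pow_self 2 (by omega)) (by norm_num)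
        omega
      have hne1 : 2 ^ (2 * m + 1) - 1 ≠ 0 := fun h => hodd1 (by rw [h]; exact dvd_zero 2)
      have hne2 : (2 ^ (2 * m + 1)) ^ 2 + 1 ≠ 0 := by omega
      have hne3 : (2 ^ (2 * m + 1)) ^ 2 ≠ 0 := by positivity
      rw [Nat.factorization_mul (mul_ne_zero hne3 hne1) hne2, Nat.factorization_mul hne3 hne1]
      simp only [Finsupp.coe_add, Pi.add_apply]
      rw [Nat.factorization_eq_zero_of_not_dvd hodd1, Nat.factorization_eq_zero_of_not_dvd hodd2, ← pow_mul,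
        Nat.Prime.factorization_pow Nat.prime_two]
      simp
    have h4 := (szMore h' P).card_eq
    have h5 : Nat.card (Zs P) ^ 2 = (2 ^ (2 * m + 1)) ^ 2 := by rw [← h1]; exact h4.symm
    have h6 : Nat.card (Zs P) = 2 ^ (2 * m + 1) := Nat.pow_left_injective (by norm_num : (2 : ℕ) ≠ 0) h5
    rw [← h6]
    exact Nat.card_le_card_of_injective _ (Subgroup.inclusion_injective hAZ)
  · intro k hk hk1
    set q := 2 ^ (2 * m + 1) with hq
    set s := 2 ^ (m + 1) with hs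
    have hss : s * s = 2 * q := by rw [hs, hq, ← pow_add, ← pow_succ']; congr 1; ring
    have hsq : s < q := Nat.pow_lt_pow_right (by norm_num) (by omega)
    obtain ⟨r, hr, hr1, -, hr3⟩ := Lib.Zsigmondy.exists_primitive (a := 2) (n := 4 * (2 * m + 1)) le_rfl (by omega)
      (fun h => by omega) (fun h => by omega)
    have hr2 : r ≠ 2 := fun h => hr3 (by rw [h])
    have hrq : r ∣ (q + s + 1) * (q - s + 1) := by
      have h1 : r ∣ 2 ^ (4 * (2 * m + 1)) - 1 := (hr1 _).2 dvd_rfl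
      have h2 : 2 ^ (4 * (2 * m + 1)) - 1 = (q ^ 2 - 1) * (q ^ 2 + 1) := by
        have h0 : 1 ≤ q ^ 2 := Nat.one_le_pow _ _ (by positivity)
        have e1 : 2 ^ (4 * (2 * m + 1)) = q ^ 2 * q ^ 2 := by rw [hq, ← pow_mul, ← pow_add]; congr 1; ring
        rw [e1]
        obtain ⟨x, hx⟩ : ∃ x, q ^ 2 = x + 1 := ⟨q ^ 2 - 1, by omega⟩
        rw [hx]
        have : (x + 1) * (x + 1) = x * (x + 1 + 1) + 1 := by ring
        rw [this]; simp
      have h3 : ¬ r ∣ q ^ 2 - 1 := by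
        intro h3
        have e1 : q ^ 2 = 2 ^ (2 * (2 * m + 1)) := by rw [hq, ← pow_mul]; congr 1; ring
        rw [e1] at h3
        have h4 := (hr1 _).1 h3
        have h5 := Nat.le_of_dvd (by omega) h4
        omega
      rw [h2] at h1
      have h4 : (q + s + 1) * (q - s + 1) = q ^ 2 + 1 := by
        obtain ⟨x, hx⟩ : ∃ x, q = s + x := ⟨q - s, by omega⟩
        have h5 : q - s = x := by omega
        rw [h5, hx]
        rw [hx] at hss
        nlinarith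
      rw [h4]
      exact (hr.dvd_mul.1 h1).resolve_left h3
    obtain ⟨i⟩ := SzIso.iso hm hF
    let g : ↥(Cfsg.Sz F m) ≃* J := i.trans e.symm
    have hodds : Odd (q + s + 1) ∧ Odd (q - s + 1) := by
      have e1 : Even q := (Nat.even_pow.2 ⟨even_two, by omega⟩)
      have e2 : Even s := (Nat.even_pow.2 ⟨even_two, by omega⟩)
      obtain ⟨a, ha⟩ := e1
      obtain ⟨b, hb⟩ := e2
      exact ⟨⟨a + b, by omega⟩, ⟨a - b, by omega⟩⟩
    have key : ∀ c ∈ ({q + s + 1, q - s + 1} : Set ℕ), Odd c → r ∣ c →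
        ∃ (y t : J), orderOf y = r ∧ t * t = 1 ∧ t ≠ 1 ∧ t * y * t⁻¹ = y⁻¹ := by
      intro c hc hco hrc
      obtain ⟨U, hU1, hU2, hU3, hU4⟩ := Cfsg.Agent.S0333.result hm hF c hc
      have hfin : Finite ↥(Cfsg.Sz F m) := Finite.of_equiv J g.symm.toEquiv
      obtain ⟨t, ht1, ht2, ht3⟩ := inverts_torus hco hU1 hU2 hU3 hU4
      have : Fact r.Prime := ⟨hr⟩
      obtain ⟨y, hy⟩ := exists_prime_orderOf_dvd_card' (G := U) r (by rw [hU2]; exact hrc)
      refine ⟨g y, g t, ?_, by rw [← map_mul, ht1, map_one], fun h => ht2 ?_, ?_⟩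
      · rw [MulEquiv.orderOf_eq, Subgroup.orderOf_coe]; exact hy
      · exact g.injective (by rw [h, map_one])
      · rw [← map_mul, ← map_inv, ← map_mul, ht3 y y.2, map_inv]
    obtain ⟨y, t, hy, htt, ht1, hty⟩ : ∃ (y t : J), orderOf y = r ∧ t * t = 1 ∧ t ≠ 1 ∧ t * y * t⁻¹ = y⁻¹ := by
      rcases hr.dvd_mul.1 hrq with h1 | h1
      · exact key _ (by simp) hodds.1 h1
      · exact key _ (by simp) hodds.2 h1
    obtain ⟨x, hx⟩ := conj_inv h' htt ht1 hk hk1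
    refine ⟨r, x * y * x⁻¹, hr, hr2, ?_, ?_, ?_⟩
    · rw [← hy]
      exact orderOf_injective (MulAut.conj x).toMonoidHom (MulAut.conj x).injective y
    · rw [← hx]
      have : x * t * x⁻¹ * (x * y * x⁻¹) * (x * t * x⁻¹)⁻¹ = x * (t * y * t⁻¹) * x⁻¹ := by group
      rw [this, hty]; group
    · intro d hd hdvd
      exact Nat.le_of_dvd hd ((hr1 d).1 hdvd)

/-- **(R2)** for an element `a` of an overgroup acting on `J` as the involution `k` -/
theorem index_ge {X : Type*} [Group X] {J : Subgroup X} [Finite J] {V : Type*} [CommGroup V] [Finite V]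
    {ρ : X →* MulAut V} (h : Cfsg.Lie.IsoSuzuki J) (hV : ∀ v : V, v * v = 1)
    (hρ : ∀ y ∈ J, y ≠ 1 → ∃ v, ρ y v ≠ v) :
    ∃ f : ℕ, 3 ≤ f ∧ Odd f ∧ Nat.card J = (2 ^ f) ^ 2 * (2 ^ f - 1) * ((2 ^ f) ^ 2 + 1) ∧
      (∀ A : Subgroup J, (∀ a ∈ A, a * a = 1) → Nat.card A ≤ 2 ^ f) ∧
      ∀ (a : X) (k : J), k * k = 1 → k ≠ 1 → (∀ y ∈ J, a * y * a⁻¹ = k * y * (k : X)⁻¹) →
        2 ^ (2 * f) ≤ (fx ρ a).index := by
  obtain ⟨f, h1, h2, h3, h4, h5⟩ := sz h
  refine ⟨f, h1, h2, h3, h4, fun a k hk hk1 ha => ?_⟩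
  obtain ⟨r, y, hr, hr2, hy, hky, hd⟩ := h5 k hk hk1
  have hy' : orderOf (y : X) = r := by rw [Subgroup.orderOf_coe]; exact hy
  refine le_index hV hr hr2 hy' (hρ y y.2 ?_) ?_ ?_
  · intro h6
    rw [h6, orderOf_one] at hy'
    exact hr.one_lt.ne hy'
  · rw [ha y y.2]
    exact congrArg Subtype.val hky
  · intro d hd0 hdr
    have := hd d hd0 hdr
    omega

end Cfsg.Agent.OddCyclic.ClaimC.Sz
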