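import Mathlib
import Cfsg.Agent.OddCyclic.EmpC.Basic

/-!
# CLAIM C (3.3) of blueprints/S0342-Empty-NS-helper347.md, the output (α')

`q₀ = 2^d`, `K ≅ SL₂(q₀²)`, `E ∈ Syl₂(K)`, `|V : D| = |R| = q₀`, `|V| = q₀⁴`, `K` irreducible on `V`; `T ≤ N_K(E)` is
cyclic of order `q₀² - 1`, regular on the nontrivial elements of `E`, and normalises `D` and `R`; the elements `t ≠ 1` of `T`
with `t^(q₀-1) = 1` act without fixed points on `V/D` and `R` and trivially on `D/R`; the elements `t ≠ 1` of `T` with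
`t^(q₀+1) = 1` act trivially on `V/D` and without fixed points on `D/R`.
-/

set_option autoImplicit false
set_option linter.unusedSectionVars false

namespace Cfsg.Agent.OddCyclic.ClaimC.Alpha

open Subgroup Cfsg.Agent.OddCyclic.T1Module Cfsg.Agent.OddCyclic.FFBasic

variable {H : Type*} [Group H] {V : Type*} [CommGroup V]

structure Alpha (ρ : H →* MulAut V) (K E T : Subgroup H) (R D : Subgroup V) (d : ℕ) : Prop where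
  pos : 1 ≤ d
  cardE : Nat.card E = (2 ^ d) ^ 2
  cardR : Nat.card R = 2 ^ d
  index : D.index = 2 ^ d
  cardV : Nat.card V = (2 ^ d) ^ 4
  EK : E ≤ K
  TK : T ≤ K
  /-- `E` is a Sylow 2-subgroup of `K` -/
  odd : Odd (E.relIndex K)
  /-- `K` is irreducible on `V` -/
  irr : ∀ W : Subgroup V, (∀ k ∈ K, ∀ w ∈ W, ρ k w ∈ W) → W = ⊥ ∨ W = ⊤
  cyc : IsCyclic T
  cardT : Nat.card T = (2 ^ d) ^ 2 - 1
  norm : ∀ t ∈ T, ∀ a ∈ E, t * a * t⁻¹ ∈ E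
  semi : ∀ t ∈ T, ∀ a ∈ E, a ≠ 1 → t * a = a * t → t = 1
  trans : ∀ a ∈ E, a ≠ 1 → ∀ b ∈ E, b ≠ 1 → ∃ t ∈ T, t * a * t⁻¹ = b
  TR : ∀ t ∈ T, ∀ v ∈ R, ρ t v ∈ R
  TD : ∀ t ∈ T, ∀ v ∈ D, ρ t v ∈ D
  /-- `t^(q₀-1) = 1` : no fixed points on `V/D` and `R`, trivial on `D/R` -/
  minusD : ∀ t ∈ T, t ≠ 1 → t ^ (2 ^ d - 1) = 1 → ∀ v, ρ t v * v⁻¹ ∈ D → v ∈ D
  minusR : ∀ t ∈ T, t ≠ 1 → t ^ (2 ^ d - 1) = 1 → ∀ v ∈ R, ρ t v = v → v = 1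
  minusDR : ∀ t ∈ T, t ^ (2 ^ d - 1) = 1 → ∀ v ∈ D, ρ t v * v⁻¹ ∈ R
  /-- `t^(q₀+1) = 1` : trivial on `V/D`, no fixed points on `D/R` -/
  plusD : ∀ t ∈ T, t ^ (2 ^ d + 1) = 1 → ∀ v, ρ t v * v⁻¹ ∈ D
  plusDR : ∀ t ∈ T, t ≠ 1 → t ^ (2 ^ d + 1) = 1 → ∀ v ∈ D, ρ t v * v⁻¹ ∈ R → v ∈ R

end Cfsg.Agent.OddCyclic.ClaimC.Alpha
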