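import Cfsg.Agent.OddCyclic.ClaimC.Defs
import Cfsg.Agent.OddCyclic.FFRed

/-!
# CLAIM C: first consequences
-/

set_option autoImplicit false
set_option linter.unusedSectionVars false

namespace Cfsg.Agent.OddCyclic.ClaimC.Basic

open Cfsg.Agent.OddCyclic.T1Module Cfsg.Agent.OddCyclic.FFBasic Cfsg.Agent.OddCyclic.T1Defs
  Cfsg.Agent.OddCyclic.FFRed Cfsg.Agent.OddCyclic.FFSl2 Cfsg.Agent.OddCyclic.ClaimC.Defs
open Cfsg.Agent.OddCyclic.PumpMain (KZero)

section gen

variable {H : Type*} [Group H] {V : Type*} [CommGroup V] (ρ : H →* MulAut V)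

theorem apply_eq (a : H) (v : V) : ρ a v = cm ρ a v * v := by rw [cm_apply, inv_mul_cancel_right]

theorem cm_mul (a b : H) (v : V) : cm ρ (a * b) v = cm ρ a (cm ρ b v) * cm ρ a v * cm ρ b v := by
  have h1 : ρ a (ρ b v) = cm ρ a (cm ρ b v) * cm ρ b v * (cm ρ a v * v) := by
    rw [apply_eq ρ b v, map_mul, apply_eq ρ a (cm ρ b v), apply_eq ρ a v]
  rw [cm_apply ρ (a * b), map_mul, MulAut.mul_apply, h1]
  have h2 : ∀ x y z w : V, x * y * (z * w) * w⁻¹ = x * z * y := by
    intro x y z w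
    calc x * y * (z * w) * w⁻¹ = x * (y * z) := by group
      _ = x * z * y := by rw [mul_comm y z, mul_assoc]
  exact h2 _ _ _ _

theorem cm_one (v : V) : cm ρ 1 v = 1 := by rw [cm_apply, map_one]; exact mul_inv_cancel v

theorem mem_fx_iff {a : H} {v : V} : v ∈ fx ρ a ↔ cm ρ a v = 1 := by
  rw [mem_fx, cm_apply, mul_inv_eq_one]

end gen

variable {H : Type*} [Group H] [Finite H] {V : Type*} [CommGroup V] [Finite V] {ρ : H →* MulAut V}
  {S : Sylow 2 H} {E : Subgroup H} {R D : Subgroup V}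

namespace Cl

variable (h : Cl ρ S E R D)
include h

theorem inv_eq (v : V) : v⁻¹ = v := inv_eq_of_mul_eq_one_left (h.sqV v)

theorem exists_notin : ∃ v, v ∉ D := by
  by_contra hcon
  push Not at hcon
  exact h.lt (by rw [eq_top_iff]; exact fun v _ => hcon v)

theorem exists_ne : ∃ a ∈ E, a ≠ 1 := by
  obtain ⟨⟨a, ha⟩, ha1⟩ := Subgroup.ne_bot_iff_exists_ne_one.1 h.ne
  exact ⟨a, ha, fun h => ha1 (Subtype.ext h)⟩

theorem fx_le {a : H} (ha : a ∈ E) (ha1 : a ≠ 1) : fx ρ a ≤ D := by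
  intro v hv
  by_contra hvD
  apply h.out v hvD a ha ha1
  rw [(mem_fx_iff ρ).1 hv]
  exact one_mem R

theorem CS_le : CS ρ E ≤ D := by
  obtain ⟨a, ha, ha1⟩ := Cl.exists_ne h
  exact (CS_le_fx ha).trans (Cl.fx_le h ha ha1)

theorem R_le_CS : R ≤ CS ρ E := fun r hr a ha => h.cent a ha r hr

theorem R_le_fx {a : H} (ha : a ∈ E) : R ≤ fx ρ a := fun r hr => h.cent a ha r hr

/-- modulo `R` the commutator map is additive in `a` -/
theorem cm_mul_mem {a b : H} (ha : a ∈ E) (hb : b ∈ E) (v : V) :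
    (cm ρ a v * cm ρ b v)⁻¹ * cm ρ (a * b) v ∈ R := by
  rw [cm_mul, mul_assoc (cm ρ a (cm ρ b v)), mul_comm (cm ρ a (cm ρ b v)), inv_mul_cancel_left]
  exact h.comm a ha _ (h.mem b hb v)

theorem invE {a : H} (ha : a ∈ E) : a⁻¹ = a := inv_eq_of_mul_eq_one_left (h.sq a ha)

/-- injectivity -/
theorem eq_of_cm {v : V} (hv : v ∉ D) {a b : H} (ha : a ∈ E) (hb : b ∈ E) (hab : cm ρ a v * cm ρ b v ∈ R) :
    a = b := by
  by_contra hne
  apply h.out v hv (a * b) (mul_mem ha hb)
  · intro h1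
    apply hne
    rw [eq_inv_of_mul_eq_one_left h1, Cl.invE h hb]
  · have h1 := Cl.cm_mul_mem h ha hb v
    have h2 := mul_mem hab h1
    rwa [mul_inv_cancel_left] at h2

theorem card_E : Nat.card E = R.relIndex D := by
  obtain ⟨v, hv⟩ := Cl.exists_notin h
  let f : E → D ⧸ R.subgroupOf D := fun a => QuotientGroup.mk ⟨cm ρ a v, h.mem a a.2 v⟩
  have hf : Function.Bijective f := by
    constructor
    · intro a b hab
      have h1 := QuotientGroup.eq.1 hab
      rw [Subgroup.mem_subgroupOf] at h1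
      change (cm ρ a v)⁻¹ * cm ρ b v ∈ R at h1
      rw [Cl.inv_eq h] at h1
      exact Subtype.ext (Cl.eq_of_cm h hv a.2 b.2 h1)
    · intro x
      obtain ⟨u, rfl⟩ := QuotientGroup.mk_surjective x
      obtain ⟨a, ha, r, hr, hu⟩ := h.sur v hv u u.2
      refine ⟨⟨a, ha⟩, ?_⟩
      apply QuotientGroup.eq.2
      rw [Subgroup.mem_subgroupOf]
      change (cm ρ a v)⁻¹ * (u : V) ∈ R
      rw [hu, inv_mul_cancel_left]
      exact hr
  exact Nat.card_congr (Equiv.ofBijective f hf)

/-- `|V : D| ≤ |C_V(a) : R|` -/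
theorem index_D_le {a : H} (ha : a ∈ E) (ha1 : a ≠ 1) : D.index ≤ R.relIndex (fx ρ a) := by
  have hfix : ∀ v, cm ρ a v ∈ fx ρ a := by
    intro v
    rw [mem_fx, cm_apply, map_mul, map_inv, ← MulAut.mul_apply, ← map_mul, h.sq a ha, map_one, MulAut.one_apply,
      Cl.inv_eq h, Cl.inv_eq h]
    exact mul_comm _ _
  let f : V ⧸ D → fx ρ a ⧸ R.subgroupOf (fx ρ a) := Quotient.lift
    (fun v : V => (QuotientGroup.mk ⟨cm ρ a v, hfix v⟩ : fx ρ a ⧸ R.subgroupOf (fx ρ a))) (by
    intro v w hvw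
    have h1 : v⁻¹ * w ∈ D := QuotientGroup.leftRel_apply.1 hvw
    apply QuotientGroup.eq.2
    rw [Subgroup.mem_subgroupOf]
    change (cm ρ a v)⁻¹ * cm ρ a w ∈ R
    rw [← map_inv, ← map_mul]
    exact h.comm a ha _ h1)
  have hf : Function.Injective f := by
    intro x y
    refine QuotientGroup.induction_on x fun v => ?_
    refine QuotientGroup.induction_on y fun w => ?_
    intro hvw
    have h1 := QuotientGroup.eq.1 (show (QuotientGroup.mk ⟨cm ρ a v, hfix v⟩ : fx ρ a ⧸ R.subgroupOf (fx ρ a)) =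
      QuotientGroup.mk ⟨cm ρ a w, hfix w⟩ from hvw)
    rw [Subgroup.mem_subgroupOf] at h1
    change (cm ρ a v)⁻¹ * cm ρ a w ∈ R at h1
    rw [← map_inv, ← map_mul] at h1
    apply QuotientGroup.eq.2
    by_contra hcon
    exact h.out _ hcon a ha ha1 h1
  exact Nat.card_le_card_of_injective f hf

theorem index_mul : R.relIndex D * D.index = R.index := Subgroup.relIndex_mul_index h.le

/-- **(2)** -/
theorem index_fx_le {a : H} (ha : a ∈ E) (ha1 : a ≠ 1) : (fx ρ a).index ≤ Nat.card E := by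
  have h1 := Cl.index_mul h
  have h2 : R.relIndex (fx ρ a) * (fx ρ a).index = R.index := Subgroup.relIndex_mul_index (Cl.R_le_fx h ha)
  have h3 := Cl.index_D_le h ha ha1
  have h4 : 0 < D.index := Nat.pos_of_ne_zero Subgroup.index_ne_zero_of_finite
  rw [← Cl.card_E h, ← h2] at h1
  by_contra hcon
  push Not at hcon
  have h5 : D.index * (Nat.card E) < R.relIndex (fx ρ a) * (fx ρ a).index :=
    Nat.mul_lt_mul_of_le_of_lt h3 hcon (lt_of_lt_of_le h4 h3)
  rw [← h1, mul_comm] at h5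
  exact lt_irrefl _ h5

theorem index_D_le_card : D.index ≤ Nat.card E := by
  obtain ⟨a, ha, ha1⟩ := Cl.exists_ne h
  refine (Cl.index_D_le h ha ha1).trans ?_
  rw [Cl.card_E h]
  have h1 : R.relIndex (fx ρ a) ∣ R.relIndex D := by
    have h2 := Subgroup.relIndex_mul_relIndex R (fx ρ a) D (Cl.R_le_fx h ha) (Cl.fx_le h ha ha1)
    exact ⟨_, h2.symm⟩
  exact Nat.le_of_dvd (Nat.pos_of_ne_zero (Subgroup.index_ne_zero_of_finite (H := R.subgroupOf D))) h1

/-- **(3)** `E` does not centralise `D` -/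
theorem not_le_CS : ¬ D ≤ CS ρ E := by
  intro h1
  have h2 : CS ρ E = D := le_antisymm (Cl.CS_le h) h1
  have h3 := h.nff E h.sq h.ne
  rw [h2] at h3
  exact absurd (Cl.index_D_le_card h) (not_le.2 h3)

/-- **(4)** -/
theorem four_le : 4 ≤ Nat.card E := by
  have : Fact (Nat.Prime 2) := ⟨Nat.prime_two⟩
  have hp : IsPGroup 2 E := fun a => ⟨1, by rw [pow_one, pow_two]; exact Subtype.ext (h.sq a a.2)⟩
  obtain ⟨n, hn⟩ := IsPGroup.iff_card.1 hp
  obtain ⟨a, ha, ha1⟩ := Cl.exists_ne h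
  have hE1 : Nat.card E ≠ 1 := by
    intro h1
    exact h.ne (Subgroup.card_eq_one.1 h1)
  have hn0 : n ≠ 0 := by
    rintro rfl
    exact hE1 (by rw [hn, pow_zero])
  have hn1 : n ≠ 1 := by
    rintro rfl
    rw [pow_one] at hn
    have h1 : CS ρ E = fx ρ a := by
      apply le_antisymm (CS_le_fx ha)
      intro v hv b hb
      by_cases hb1 : b = 1
      · rw [hb1, map_one]; rfl
      · have h2 : b = a := by
          by_contra hba
          have h3 : 3 ≤ Nat.card E := by
            classical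
            have h4 : ({1, a, b} : Finset H).card = 3 := by
              rw [Finset.card_insert_of_notMem, Finset.card_insert_of_notMem, Finset.card_singleton]
              · simpa using (Ne.symm hba)
              · simp only [Finset.mem_insert, Finset.mem_singleton, not_or]
                exact ⟨Ne.symm ha1, Ne.symm hb1⟩
            rw [← h4, ← Set.ncard_coe_finset, ← Nat.card_coe_set_eq]
            refine Nat.card_mono (Set.toFinite (E : Set H)) ?_
            intro x hx
            simp only [Finset.coe_insert, Finset.coe_singleton, Set.mem_insert_iff, Set.mem_singleton_iff] at hx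
            rcases hx with rfl | rfl | rfl
            · exact one_mem E
            · exact ha
            · exact hb
          omega
        rw [h2]; exact hv
    have h2 := h.nff E h.sq h.ne
    have h3 := Cl.index_fx_le h ha ha1
    rw [h1] at h2
    omega
  rw [hn]
  calc 4 = 2 ^ 2 := by norm_num
    _ ≤ 2 ^ n := Nat.pow_le_pow_right (by norm_num) (by omega)

end Cl

end Cfsg.Agent.OddCyclic.ClaimC.Basic
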