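import Cfsg.Agent.OddCyclic.FFSl2
import Cfsg.Agent.OddCyclic.PumpMain

/-!
# CLAIM C: the hypotheses

Two noncommuting conjugates of `V` with maximal intersection `R` give an elementary abelian group `E ≤ H = Aut_G(V)`
and a subgroup `R ≤ D < V` such that for `v ∉ D` the map `a ↦ [v, a] R` is a bijection `E → D / R`
(`blueprints/S0342-ClaimC-helper168.md`).  `V` is written multiplicatively.
-/

set_option autoImplicit false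

namespace Cfsg.Agent.OddCyclic.ClaimC.Defs

open Cfsg.Agent.OddCyclic.T1Module Cfsg.Agent.OddCyclic.FFBasic Cfsg.Agent.OddCyclic.T1Defs
open Cfsg.Agent.OddCyclic.PumpMain (KZero)

variable {H : Type*} [Group H] {V : Type*} [CommGroup V]

structure Cl (ρ : H →* MulAut V) (S : Sylow 2 H) (E : Subgroup H) (R D : Subgroup V) : Prop where
  sqV : ∀ v : V, v * v = 1
  inj : Function.Injective ρ
  oc : OddCyc H
  kz : ∀ J : Subgroup H, IsSimpleGroup J → (∃ x y : J, x * y ≠ y * x) → KZero J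
  o2 : ∀ Q : Subgroup H, Q.Normal → IsPGroup 2 Q → Q = ⊥
  sq : ∀ a ∈ E, a * a = 1
  ne : E ≠ ⊥
  le : R ≤ D
  lt : D ≠ ⊤
  mem : ∀ a ∈ E, ∀ v, cm ρ a v ∈ D
  out : ∀ v, v ∉ D → ∀ a ∈ E, a ≠ 1 → cm ρ a v ∉ R
  sur : ∀ v, v ∉ D → ∀ u ∈ D, ∃ a ∈ E, ∃ r ∈ R, u = cm ρ a v * r
  comm : ∀ a ∈ E, ∀ u ∈ D, cm ρ a u ∈ R
  cent : ∀ a ∈ E, ∀ r ∈ R, ρ a r = r
  bad : ∀ W ≤ R, (∀ g, ∀ w ∈ W, ρ g w ∈ W) → W = ⊥
  gen : ∀ W : Subgroup V, (∀ g, ∀ w ∈ W, ρ g w ∈ W) → CS ρ (S : Subgroup H) ≤ W → W = ⊤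
  irr : ∀ K : Subgroup H, K.Normal → K ≠ ⊥ → CS ρ K ≠ ⊥ → ∀ W : Subgroup V,
    (∀ k ∈ K, ∀ w ∈ W, ρ k w ∈ W) → CS ρ (S : Subgroup H) ≤ W → ∃ k ∈ K, ∃ v, cm ρ k v ∉ W
  nff : ∀ A : Subgroup H, (∀ a ∈ A, a * a = 1) → A ≠ ⊥ → Nat.card A < (CS ρ A).index

end Cfsg.Agent.OddCyclic.ClaimC.Defs
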