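import Cfsg.Agent.OddCyclic.ClaimC.SixO

/-!
# CLAIM C, section 6: `K ≅ SL₂(q)`, the output (α')
-/

set_option autoImplicit false
set_option linter.unusedSectionVars false

namespace Cfsg.Agent.OddCyclic.ClaimC.Six

open Matrix Cfsg.Agent.OddCyclic.EmpC Cfsg.Agent.OddCyclic.ClaimC.Alpha

/-- **CLAIM C, section 6** -/
theorem main {H : Type*} [Group H] [Finite H] {V : Type*} [CommGroup V] [Finite V]
    {F : Type*} [Field F] [Fintype F] [CharP F 2]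
    {ρ : H →* MulAut V} {T : Sylow 2 H} {K E : Subgroup H} [K.Normal] {R D : Subgroup V} {c d : ℕ}
    (h : Cfg ρ E R D c d) (hB : Bad ρ T) (hN : NFF ρ) (hV : ∀ v : V, v * v = 1) (hρ : Function.Injective ρ)
    (h4 : 4 ≤ Fintype.card F) (e : SpecialLinearGroup (Fin 2) F ≃* K)
    (faith : ∀ a ∈ E, (∀ l ∈ K, a * l = l * a) → a = 1)
    (inn : ∀ a ∈ E, ∀ g ∈ K, (∀ l ∈ K, a * l * a⁻¹ = g * l * g⁻¹) → a ∈ K) :
    ∃ T' : Subgroup H, Alpha ρ K E T' R D d ∧ Fintype.card F = (2 ^ d) ^ 2 := by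
  have s : SixA.Hyp ρ T K E R D c d F := ⟨h, hB, hN, hV, hρ, h4, faith, inn⟩
  exact SixE.alpha s e (SixO.E_le s e)

end Cfsg.Agent.OddCyclic.ClaimC.Six
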