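import Cfsg.Agent.OddCyclic.FFOuter
import Cfsg.Agent.OddCyclic.ClaimC.WDefs

/-!
# Weak offenders: `SL₂(q)`
-/

set_option autoImplicit false
set_option linter.unusedSectionVars false

namespace Cfsg.Agent.OddCyclic.ClaimC.WO

open Matrix Cfsg.Agent.OddCyclic.T1Module Cfsg.Agent.OddCyclic.T1Sl2 Cfsg.Agent.OddCyclic.FFBasic
  Cfsg.Agent.OddCyclic.FFRed Cfsg.Agent.OddCyclic.FFSl2 Cfsg.Agent.Lib.AutSL2 Cfsg.Agent.Lib.AutSL2Out
  Cfsg.Agent.Classification.QDW.TypeHom Cfsg.Agent.OddCyclic.FFOuter Cfsg.Agent.OddCyclic.ClaimC.WDefs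
open Cfsg.Agent.Lib.SL2Mat (fieldAut)

section outer


variable {H : Type*} [Group H] [Finite H] {V : Type*} [CommGroup V] [Finite V] {ρ : H →* MulAut V}
variable {L A : Subgroup H} [L.Normal] {F : Type*} [Field F] [Fintype F] [CharP F 2]

theorem orr_ne (h4 : 4 ≤ Fintype.card F) (e : SpecialLinearGroup (Fin 2) F ≃* L) (h : Fw ρ L A) :
    ∃ g v, rr ρ e g v ≠ v := by
  have hs := isSimpleGroup_sl2 h4
  obtain ⟨g, hg⟩ := exists_ne (1 : SpecialLinearGroup (Fin 2) F)
  obtain ⟨v, hv⟩ := h.faithL (e g) (e g).2 (fun h => hg (by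
    have : e g = 1 := Subtype.ext h
    rwa [map_eq_one_iff e e.injective] at this))
  exact ⟨g, v, hv⟩

/-- elements of `A ∖ L` induce outer automorphisms -/
theorem otyp_ne (e : SpecialLinearGroup (Fin 2) F ≃* L) (h : Fw ρ L A) {a : H} (ha : a ∈ A) (haL : a ∉ L) :
    typ (ac e a) ≠ 1 := by
  intro h1
  obtain ⟨s, hs⟩ := (L2Model.inner_iff _).1 h1
  apply haL
  refine h.inn a ha (e s) (e s).2 ?_
  rw [← ac_coe e s] at hs
  exact (ac_eq_iff e _ _).1 hs

theorem oac_sq (e : SpecialLinearGroup (Fin 2) F ≃* L) (h : Fw ρ L A) {a : H} (ha : a ∈ A) :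
    ac e a * ac e a = 1 := by rw [← map_mul, h.sq a ha, map_one]

theorem omul_mem_L (e : SpecialLinearGroup (Fin 2) F ≃* L) (h : Fw ρ L A) {a b : H} (ha : a ∈ A) (haL : a ∉ L)
    (hb : b ∈ A) (hbL : b ∉ L) : a * b ∈ L := by
  by_contra hab
  have h1 := otyp_ne e h ha haL
  have h2 := otyp_ne e h hb hbL
  have h3 := otyp_ne e h (mul_mem ha hb) hab
  apply h3
  have h4 : typ (ac e a) = typ (ac e b) := by
    refine L2Borel.ringAut_invol ?_ ?_ h1 h2
    · rw [← map_mul, oac_sq e h ha, map_one]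
    · rw [← map_mul, oac_sq e h hb, map_one]
  rw [map_mul, map_mul, ← h4, ← map_mul, oac_sq e h ha, map_one]

theorem orelIndex_A (e : SpecialLinearGroup (Fin 2) F ≃* L) (h : Fw ρ L A) (hAL : ¬ A ≤ L) : L.relIndex A = 2 := by
  obtain ⟨a, ha, haL⟩ := SetLike.not_le_iff_exists.1 hAL
  rw [Subgroup.relIndex, Subgroup.index_eq_two_iff]
  refine ⟨⟨a, ha⟩, fun b => ?_⟩
  rw [Subgroup.mem_subgroupOf, Subgroup.mem_subgroupOf]
  show Xor ((b : H) * a ∈ L) ((b : H) ∈ L)
  by_cases hb : (b : H) ∈ L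
  · refine Or.inr ⟨hb, fun h1 => haL ?_⟩
    have := mul_mem (inv_mem hb) h1
    rwa [inv_mul_cancel_left] at this
  · exact Or.inl ⟨omul_mem_L e h b.2 hb ha haL, hb⟩

theorem ocard_inf (e : SpecialLinearGroup (Fin 2) F ≃* L) (h : Fw ρ L A) (hAL : ¬ A ≤ L) :
    2 * Nat.card (A ⊓ L : Subgroup H) = Nat.card A := by
  have h1 := card_mul_relIndex (A := A ⊓ L) (B := A) inf_le_left
  rw [Subgroup.inf_relIndex_left, orelIndex_A e h hAL] at h1
  rw [← h1, mul_comm]

theorem ocard_inf_dvd (e : SpecialLinearGroup (Fin 2) F ≃* L) (h : Fw ρ L A) (hAL : ¬ A ≤ L) :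
    ∃ q : ℕ, Fintype.card F = q ^ 2 ∧ Nat.card (A ⊓ L : Subgroup H) ≤ q := by
  obtain ⟨a, ha, haL⟩ := SetLike.not_le_iff_exists.1 hAL
  obtain ⟨q, hq, hc⟩ := L2Model.card_fix (oac_sq e h ha) (otyp_ne e h ha haL)
  have hcF : Nat.card F = Fintype.card F := Nat.card_eq_fintype_card
  rw [hcF] at hq hc
  refine ⟨q, hq, ?_⟩
  have hq0 : 0 < q := by
    rcases Nat.eq_zero_or_pos q with h0 | h0
    · rw [h0] at hq
      have := Fintype.card_pos (α := F)
      omega
    · exact h0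
  -- the fixed points contain `A ∩ L`
  have h1 : Nat.card (A ⊓ L : Subgroup H) ∣ Nat.card (L2Model.fix (ac e a)) := by
    let f : (A ⊓ L : Subgroup H) →* L2Model.fix (ac e a) :=
      { toFun := fun x => ⟨e.symm ⟨x, x.2.2⟩, by
          rw [L2Model.mem_fix]
          apply e.injective
          apply Subtype.ext
          rw [e_ac, e.apply_symm_apply]
          show a * (x : H) * a⁻¹ = x
          rw [comm_of_sq h.sq ha x.2.1, mul_inv_cancel_right]⟩
        map_one' := Subtype.ext (map_one e.symm)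
        map_mul' := fun x y => Subtype.ext (by
          show e.symm _ = e.symm _ * e.symm _
          rw [← map_mul]; rfl) }
    have hf : Function.Injective f := by
      intro x y hxy
      have h2 := congrArg Subtype.val hxy
      have h3 := e.symm.injective h2
      exact Subtype.ext (congrArg (fun z : L => (z : H)) h3)
    rw [Nat.card_congr (MonoidHom.ofInjective hf).toEquiv]
    exact f.range.card_subgroup_dvd_card
  have hp : IsPGroup 2 (A ⊓ L : Subgroup H) := fun a => ⟨1, by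
    rw [pow_one, pow_two]; exact Subtype.ext (h.sq a a.2.1)⟩
  have : Fact (Nat.Prime 2) := ⟨Nat.prime_two⟩
  obtain ⟨m, hm⟩ := (IsPGroup.iff_card (p := 2)).1 hp
  rw [hm, hc] at h1
  rw [hm]
  apply Nat.le_of_dvd hq0
  refine Nat.Coprime.dvd_of_dvd_mul_right ?_ h1
  obtain ⟨n, hn, hF⟩ := card_pow F
  rw [hF]
  apply Nat.Coprime.pow_left
  rw [Nat.coprime_two_left]
  have h5 : Even (2 ^ n) := (Nat.even_pow' hn.ne').2 even_two
  have h6 : 0 < 2 ^ n := by positivity
  rcases h5 with ⟨r, hr⟩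
  exact ⟨r - 1, by omega⟩

theorem oindex_ge (h4 : 4 ≤ Fintype.card F) (e : SpecialLinearGroup (Fin 2) F ≃* L) (h : Fw ρ L A)
    (hV : ∀ v : V, v * v = 1) {x : H} (hx : x ∈ L) (hxx : x * x = 1) (hx1 : x ≠ 1) :
    Fintype.card F ≤ (fx ρ x).index := by
  have h1 := sl2_index h4 hV (rr ρ e) (orr_ne h4 e h) (a := e.symm ⟨x, hx⟩)
    (by rw [← map_mul, ← map_one e.symm]; congr 1; exact Subtype.ext hxx)
    (fun h => hx1 (by
      have := congrArg e h
      rw [e.apply_symm_apply, map_one] at this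
      exact congrArg Subtype.val this))
  rwa [fx_rr, e.apply_symm_apply] at h1

theorem ocard_eq (h4 : 4 ≤ Fintype.card F) (e : SpecialLinearGroup (Fin 2) F ≃* L) (h : Fw ρ L A)
    (hV : ∀ v : V, v * v = 1) (hAL : ¬ A ≤ L) : Fintype.card F = 4 := by
  have h1 := ocard_inf e h hAL
  by_cases hu : ∃ u ∈ A ⊓ L, u ≠ 1
  · obtain ⟨u, hu, hu1⟩ := hu
    obtain ⟨q, hq, hq2⟩ := ocard_inf_dvd e h hAL
    have h3 := oindex_ge h4 e h hV hu.2 (h.sq u hu.1) hu1
    have h5 := h.idx u hu.1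
    have h6 : q * q ≤ 2 * q := by
      calc q * q = Fintype.card F := by rw [hq, sq]
        _ ≤ Nat.card A := h3.trans h5
        _ ≤ 2 * q := by omega
    have h7 : q ≤ 2 := by
      rcases Nat.eq_zero_or_pos q with h0 | h0
      · omega
      · exact Nat.le_of_mul_le_mul_right h6 h0
    have h8 : q * q ≤ 4 := by nlinarith
    rw [← sq, ← hq] at h8
    omega
  · push Not at hu
    have hbot : A ⊓ L = ⊥ := by
      rw [Subgroup.eq_bot_iff_forall]
      exact hu
    rw [hbot, Subgroup.card_bot] at h1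
    obtain ⟨a, ha, haL⟩ := SetLike.not_le_iff_exists.1 hAL
    have h3 := h.idx a ha
    have h5 : (fx ρ a).index ≤ 2 := by omega
    -- an involution which is a commutator with `a`
    obtain ⟨s, hs⟩ := L2Model.exists_std (oac_sq e h ha) (otyp_ne e h ha haL)
    set σ := typ (ac e a) with hσ
    obtain ⟨t, ht⟩ : ∃ t, σ t ≠ t := by
      by_contra hcon
      push Not at hcon
      exact otyp_ne e h ha haL (RingEquiv.ext hcon)
    set x := s * up t * s⁻¹ with hx
    have h6 : ac e a x = s * up (σ t) * s⁻¹ := by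
      rw [hs, hx, MulAut.mul_apply, MulAut.mul_apply, ← map_inv, MulAut.conj_apply, MulAut.conj_apply, inv_inv,
        ← fieldAut_up']
      congr 2
      congr 1
      group
    have h7 : ac e a x * x⁻¹ = s * up (σ t + t) * s⁻¹ := by
      have h8 : (up t : SpecialLinearGroup (Fin 2) F)⁻¹ = up t := by
        rw [inv_eq_iff_mul_eq_one, up_mul, CharTwo.add_self_eq_zero, up_zero]
      calc ac e a x * x⁻¹ = s * (up (σ t) * (up t)⁻¹) * s⁻¹ := by rw [h6, hx]; group
        _ = _ := by rw [h8, up_mul]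
    set y := ac e a x * x⁻¹ with hy
    have hyy : y * y = 1 := by
      rw [h7]
      have : s * up (σ t + t) * s⁻¹ * (s * up (σ t + t) * s⁻¹) = s * (up (σ t + t) * up (σ t + t)) * s⁻¹ := by group
      rw [this, up_mul, CharTwo.add_self_eq_zero, up_zero]; group
    have hy1 : y ≠ 1 := by
      intro h8
      rw [h7] at h8
      have h9 : up (σ t + t) = (1 : SpecialLinearGroup (Fin 2) F) := by
        have : up (σ t + t) = s⁻¹ * (s * up (σ t + t) * s⁻¹) * s := by group
        rw [this, h8]; group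
      have h10 : (up (σ t + t) : SpecialLinearGroup (Fin 2) F) 0 1 = 0 := by rw [h9, one01]
      rw [up01] at h10
      exact ht (CharTwo.add_eq_zero.mp h10)
    have h8 := sl2_index h4 hV (rr ρ e) (orr_ne h4 e h) hyy hy1
    rw [fx_rr] at h8
    have h9 : (e y : H) = a * (e x * a⁻¹ * (e x : H)⁻¹) := by
      rw [hy, map_mul, map_inv]
      change ((e (ac e a x) : L) : H) * _ = _
      rw [e_ac]
      change a * e x * a⁻¹ * (e x : H)⁻¹ = _
      group
    have h10 : fx ρ a ⊓ fx ρ (e x * a⁻¹ * (e x : H)⁻¹) ≤ fx ρ (e y : H) := by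
      rintro v ⟨hv1, hv2⟩
      rw [h9]
      exact fx_mul ρ hv1 hv2
    have h11 := index_le_of_le h10
    have h12 : (fx ρ a ⊓ fx ρ (e x * a⁻¹ * (e x : H)⁻¹)).index ≤
        (fx ρ a).index * (fx ρ (e x * a⁻¹ * (e x : H)⁻¹)).index := Subgroup.index_inf_le
    have haa : a⁻¹ = a := inv_eq_of_mul_eq_one_left (h.sq a ha)
    rw [index_fx_conj, haa] at h12
    have h13 : (fx ρ a).index * (fx ρ a).index ≤ 4 := by nlinarith
    rw [haa] at h11
    omega

/-! ### the isomorphism with `S₅` -/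

end outer

end Cfsg.Agent.OddCyclic.ClaimC.WO
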