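import Cfsg.Agent.OddCyclic.ClaimC.SixU
import Cfsg.Agent.OddCyclic.ClaimC.Alpha
import Cfsg.Agent.OddCyclic.ClaimC.WO

/-!
# CLAIM C, section 6: `K = SL₂(q)` is irreducible on `V` (6.1); the case `E ≤ K`
-/

set_option autoImplicit false
set_option linter.unusedSectionVars false

namespace Cfsg.Agent.OddCyclic.ClaimC.SixA

open Matrix Cfsg.Agent.OddCyclic.T1Module Cfsg.Agent.OddCyclic.T1Sl2 Cfsg.Agent.OddCyclic.FFBasic
  Cfsg.Agent.OddCyclic.ClaimC.SixPP Cfsg.Agent.OddCyclic.FFRed Cfsg.Agent.OddCyclic.EmpC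
  Cfsg.Agent.OddCyclic.ClaimC.SixB Cfsg.Agent.OddCyclic.ClaimC.SixT Cfsg.Agent.OddCyclic.ClaimC.SixU
  Cfsg.Agent.OddCyclic.ClaimC.WDefs Cfsg.Agent.OddCyclic.ClaimC.Alpha
open Cfsg.Agent.OddCyclic.FFSl2 (index_le_of_le eq_of_index_le)
open Cfsg.Agent.OddCyclic.FFOuter (rr fx_rr ac e_ac)

variable {H : Type*} [Group H] [Finite H] {V : Type*} [CommGroup V] [Finite V]
  {F : Type*} [Field F] [Fintype F] [CharP F 2]

/-- the hypotheses of section 6 -/
structure Hyp (ρ : H →* MulAut V) (T : Sylow 2 H) (K E : Subgroup H) (R D : Subgroup V) (c d : ℕ)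
    (F : Type*) [Field F] [Fintype F] : Prop where
  cfg : Cfg ρ E R D c d
  bad : Bad ρ T
  nff : NFF ρ
  sq : ∀ v : V, v * v = 1
  inj : Function.Injective ρ
  four : 4 ≤ Fintype.card F
  faith : ∀ a ∈ E, (∀ l ∈ K, a * l = l * a) → a = 1
  inn : ∀ a ∈ E, ∀ g ∈ K, (∀ l ∈ K, a * l * a⁻¹ = g * l * g⁻¹) → a ∈ K

variable {ρ : H →* MulAut V} {T : Sylow 2 H} {K E : Subgroup H} {R D : Subgroup V} {c d : ℕ}

namespace Hyp

omit [Finite H] [Finite V] [CharP F 2] in
theorem nontriv (s : Hyp ρ T K E R D c d F) {x : H} (hx : x ≠ 1) : ∃ v, ρ x v ≠ v := by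
  by_contra hcon
  push Not at hcon
  apply hx
  apply s.inj
  rw [map_one]
  ext v
  exact hcon v

theorem fw (s : Hyp ρ T K E R D c d F) : Fw ρ K E where
  sq := s.cfg.sq
  ne := s.cfg.ne_bot
  idx := by
    intro a ha
    by_cases ha1 : a = 1
    · rw [ha1, fx_one, Subgroup.index_top]
      exact Nat.card_pos
    · exact s.cfg.width s.sq ha ha1
  faithA := s.faith
  inn := s.inn
  faithL := fun y _ hy => s.nontriv hy

variable [K.Normal]

theorem index_ge (s : Hyp ρ T K E R D c d F) (e : SpecialLinearGroup (Fin 2) F ≃* K) {x : H} (hx : x ∈ K)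
    (hxx : x * x = 1) (hx1 : x ≠ 1) : Fintype.card F ≤ (fx ρ x).index :=
  WO.oindex_ge s.four e s.fw s.sq hx hxx hx1

theorem four_le_card (s : Hyp ρ T K E R D c d F) : 4 ≤ Nat.card E := by
  rw [s.cfg.card]
  calc 4 = 2 ^ 2 := by norm_num
    _ ≤ 2 ^ c := Nat.pow_le_pow_right (by norm_num) s.cfg.two

/-- `E ∩ K ≠ 1` and `|E| ≤ q` -/
theorem exists_a (s : Hyp ρ T K E R D c d F) (e : SpecialLinearGroup (Fin 2) F ≃* K) :
    (∃ a ∈ E, a ∈ K ∧ a ≠ 1) ∧ Nat.card E ≤ Fintype.card F := by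
  have h4 := s.four_le_card
  by_cases hEK : E ≤ K
  · constructor
    · obtain ⟨⟨a, ha⟩, ha1⟩ := Subgroup.ne_bot_iff_exists_ne_one.1 s.cfg.ne_bot
      exact ⟨a, ha, hEK ha, fun h => ha1 (Subtype.ext h)⟩
    · -- the preimage is a 2-group
      let A : Subgroup (SpecialLinearGroup (Fin 2) F) := (E.subgroupOf K).map e.symm.toMonoidHom
      have h1 : Nat.card A = Nat.card E := by
        rw [Subgroup.card_map_of_injective e.symm.injective]
        exact Nat.card_congr (Subgroup.subgroupOfEquivOfLe hEK).toEquiv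
      have h2 : IsPGroup 2 A := by
        rintro ⟨_, ⟨a, ha, rfl⟩⟩
        refine ⟨1, ?_⟩
        rw [pow_one, pow_two]
        apply Subtype.ext
        show e.symm a * e.symm a = 1
        rw [← map_mul, ← map_one e.symm]
        congr 1
        exact Subtype.ext (s.cfg.sq a ha)
      obtain ⟨U, hU⟩ := h2.exists_le_sylow
      rw [← h1, ← card_sylow U]
      exact Nat.card_le_card_of_injective _ (Subgroup.inclusion_injective hU)
  · have hF := WO.ocard_eq s.four e s.fw s.sq hEK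
    obtain ⟨q, hq, hq2⟩ := WO.ocard_inf_dvd e s.fw hEK
    have h1 := WO.ocard_inf e s.fw hEK
    have h2 : q ≤ 2 := by
      by_contra hcon
      push Not at hcon
      have : 3 * 3 ≤ q * q := Nat.mul_le_mul hcon hcon
      rw [← pow_two, ← pow_two, ← hq] at this
      omega
    constructor
    · have h3 : 2 ≤ Nat.card (E ⊓ K : Subgroup H) := by omega
      obtain ⟨⟨a, ha⟩, ha1⟩ := Subgroup.ne_bot_iff_exists_ne_one.1 (show E ⊓ K ≠ ⊥ by
        intro h; rw [h, Subgroup.card_bot] at h3; omega)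
      exact ⟨a, ha.1, ha.2, fun h => ha1 (Subtype.ext h)⟩
    · omega

/-- `|V : C_V(x)| = q` for the involutions `x` of `K` -/
theorem index_K (s : Hyp ρ T K E R D c d F) (e : SpecialLinearGroup (Fin 2) F ≃* K) {x : H} (hx : x ∈ K)
    (hxx : x * x = 1) (hx1 : x ≠ 1) : (fx ρ x).index = Fintype.card F := by
  apply le_antisymm
  · obtain ⟨⟨a, ha, haK, ha1⟩, hcard⟩ := s.exists_a e
    have h1 : e.symm ⟨x, hx⟩ * e.symm ⟨x, hx⟩ = 1 := by
      rw [← map_mul, ← map_one e.symm]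
      congr 1
      exact Subtype.ext hxx
    have h2 : e.symm ⟨a, haK⟩ * e.symm ⟨a, haK⟩ = 1 := by
      rw [← map_mul, ← map_one e.symm]
      congr 1
      exact Subtype.ext (s.cfg.sq a ha)
    have hne : ∀ y : H, ∀ hy : y ∈ K, y ≠ 1 → e.symm ⟨y, hy⟩ ≠ 1 := by
      intro y hy hy1 h
      apply hy1
      have := congrArg e h
      rw [e.apply_symm_apply, map_one] at this
      exact congrArg Subtype.val this
    obtain ⟨g, hg⟩ := SixY.exists_conj h1 (hne x hx hx1) h2 (hne a haK ha1)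
    have h3 : (⟨x, hx⟩ : K) = e g * ⟨a, haK⟩ * (e g)⁻¹ := by
      rw [← e.apply_symm_apply ⟨x, hx⟩, hg, map_mul, map_mul, map_inv, e.apply_symm_apply]
    have h4 : x = (e g : H) * a * (e g : H)⁻¹ := congrArg Subtype.val h3
    rw [h4, index_fx_conj]
    exact (s.cfg.width s.sq ha ha1).trans hcard
  · exact s.index_ge e hx hxx hx1

omit [Finite H] [CharP F 2] [Finite V] in
theorem rr_apply (e : SpecialLinearGroup (Fin 2) F ≃* K) (g : SpecialLinearGroup (Fin 2) F) (v : V) :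
    rr ρ e g v = ρ (e g : H) v := rfl

/-- **(6.1)** -/
theorem irr (s : Hyp ρ T K E R D c d F) (e : SpecialLinearGroup (Fin 2) F ≃* K) :
    CS ρ K = ⊥ ∧ CM ρ K = ⊤ ∧ ∀ W : Subgroup V, (∀ k ∈ K, ∀ w ∈ W, ρ k w ∈ W) → W = ⊥ ∨ W = ⊤ := by
  have h4 := s.four
  have hs := isSimpleGroup_sl2 s.four
  have hsK : IsSimpleGroup K := e.symm.isSimpleGroup
  obtain ⟨⟨a, ha, haK, ha1⟩, hcard⟩ := s.exists_a e
  set a' := e.symm ⟨a, haK⟩ with ha'
  have hea : (e a' : H) = a := by rw [ha', e.apply_symm_apply]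
  have ha'2 : a' * a' = 1 := by
    rw [ha', ← map_mul, ← map_one e.symm]
    congr 1
    exact Subtype.ext (s.cfg.sq a ha)
  have ha'1 : a' ≠ 1 := by
    intro h
    apply ha1
    rw [← hea, h, map_one]; rfl
  -- an element of odd order
  obtain ⟨y, hy, hay⟩ : ∃ y : SpecialLinearGroup (Fin 2) F, orderOf y = 3 ∧ a' * y * a'⁻¹ = y⁻¹ := by
    obtain ⟨y₀, hy₀⟩ : ∃ y₀ : SpecialLinearGroup (Fin 2) F, orderOf y₀ = 3 := by
      refine ⟨T1Sl2.mk 0 1 1 1 ?_, ?_⟩
      · have h2 : (2 : F) = 0 := CharTwo.two_eq_zero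
        linear_combination -h2
      · apply order_three
        simp
    obtain ⟨y, hy, hay⟩ := inverts_of_orderOf ha'2 ha'1 (y₀ := y₀) (by rw [hy₀]; norm_num)
    exact ⟨y, by rw [hy, hy₀], hay⟩
  have hyo : orderOf (e y : H) = 3 := by
    rw [Subgroup.orderOf_coe, e.orderOf_eq, hy]
  have hy1 : (e y : H) ≠ 1 := by
    intro h
    rw [h, orderOf_one] at hyo
    omega
  have hO := le_closure_odd hsK (e y).2 hy1 (by rw [hyo]; decide)
  refine s.bad.irr s.sq hO ⟨_, (e y).2, s.nontriv hy1⟩ ?_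
  intro W hW
  by_contra hcon
  push Not at hcon
  obtain ⟨⟨k, hk, w, hw, hkw⟩, ⟨k', hk', v, hv⟩⟩ := hcon
  have hWi : Inv (rr ρ e) W := fun g w hw => hW _ (e g).2 w hw
  have h1 : ∃ g w, EmpC.sub (rr ρ e) W hWi g w ≠ w := by
    refine ⟨e.symm ⟨k, hk⟩, ⟨w, hw⟩, fun h => hkw ?_⟩
    have h2 := congrArg Subtype.val h
    rw [EmpC.sub_apply, rr_apply, e.apply_symm_apply] at h2
    exact h2
  have h2 : ∃ g w, quo (rr ρ e) W hWi g w ≠ w := by
    refine ⟨e.symm ⟨k', hk'⟩, (v : V ⧸ W), fun h => hv ?_⟩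
    rw [quo_apply, rr_apply, e.apply_symm_apply, QuotientGroup.eq] at h
    have h3 := inv_mem h
    rw [_root_.mul_inv_rev, inv_inv, mul_comm] at h3
    exact h3
  have h3 := sl2_index s.four (fun w : W => Subtype.ext (s.sq w)) (EmpC.sub (rr ρ e) W hWi) h1 ha'2 ha'1
  have h5 := sl2_index s.four (quo_sq s.sq) (quo (rr ρ e) W hWi) h2 ha'2 ha'1
  have h6 := index_mul_le hWi a'
  have h7 : (fx (rr ρ e) a').index = Fintype.card F := by
    rw [fx_rr, hea]
    exact s.index_K e haK (s.cfg.sq a ha) ha1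
  rw [h7] at h6
  have h8 : Fintype.card F * Fintype.card F ≤ Fintype.card F := (Nat.mul_le_mul h3 h5).trans h6
  nlinarith

end Hyp

end Cfsg.Agent.OddCyclic.ClaimC.SixA
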