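import Cfsg.Agent.OddCyclic.ClaimC.SixY
import Cfsg.Agent.OddCyclic.EmpC.Fit
import Cfsg.Agent.OddCyclic.ClaimC.LemN

/-!
# CLAIM C, (6.3): `|V| = q²`, `D = [V, U]`, `R = [D, a]`
-/

set_option autoImplicit false
set_option linter.unusedSectionVars false

namespace Cfsg.Agent.OddCyclic.ClaimC.SixB

open Matrix Cfsg.Agent.OddCyclic.T1Module Cfsg.Agent.OddCyclic.T1Sl2 Cfsg.Agent.OddCyclic.FFBasic
  Cfsg.Agent.OddCyclic.ClaimC.SixPP Cfsg.Agent.OddCyclic.FFRed Cfsg.Agent.OddCyclic.EmpC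
open Cfsg.Agent.OddCyclic.FFSl2 (index_le_of_le eq_of_index_le)
open Cfsg.Agent.OddCyclic.ClaimC

variable {F : Type*} [Field F] [Fintype F] [CharP F 2] {V : Type*} [CommGroup V]

/-- the configuration with `E = U`, the upper unitriangular subgroup -/
structure Six (ρ : SpecialLinearGroup (Fin 2) F →* MulAut V) (R D : Subgroup V) (c d : ℕ) : Prop where
  cfg : Cfg ρ (T1Sl2.SU F : Subgroup (SpecialLinearGroup (Fin 2) F)) R D c d
  irr : ∀ W : Subgroup V, Inv ρ W → W = ⊥ ∨ W = ⊤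
  nq : ∃ w ∈ D, ∃ a ∈ T1Sl2.SU F, ρ a w ≠ w
  four : 4 ≤ Fintype.card F
  sq : ∀ v : V, v * v = 1

variable [Finite V] {ρ : SpecialLinearGroup (Fin 2) F →* MulAut V} {R D : Subgroup V} {c d : ℕ}

namespace Six

theorem ne (s : Six ρ R D c d) : ∃ g v, ρ g v ≠ v := by
  obtain ⟨w, -, a, -, h⟩ := s.nq
  exact ⟨a, w, h⟩

theorem cardF (s : Six ρ R D c d) : Fintype.card F = 2 ^ c := by
  rw [← s.cfg.card, ← card_sylow (T1Sl2.SU F)]

/-- `|V : C_V(a)| = q` -/
theorem index_a (s : Six ρ R D c d) {a : SpecialLinearGroup (Fin 2) F} (ha : a ∈ T1Sl2.SU F) (ha1 : a ≠ 1) :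
    (fx ρ a).index = Fintype.card F := by
  apply le_antisymm
  · have h1 := s.cfg.width s.sq ha ha1
    rwa [s.cfg.card, ← s.cardF] at h1
  · exact sl2_index s.four s.sq ρ s.ne (SU_sq ha) ha1

theorem index_conj (s : Six ρ R D c d) {a : SpecialLinearGroup (Fin 2) F} (ha : a ∈ T1Sl2.SU F) (ha1 : a ≠ 1)
    (g : SpecialLinearGroup (Fin 2) F) : (fx ρ (g * a * g⁻¹)).index = Fintype.card F := by
  rw [index_fx_conj, s.index_a ha ha1]

/-- an involution `b` inverting `y` with `|V : C_V(y)| ≥ |V : C_V(b)|²` centralises `C_V(y)` -/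
theorem _root_.Cfsg.Agent.OddCyclic.ClaimC.SixB.fx_le_fx {X : Type*} [Group X] {ρ : X →* MulAut V} {b y : X}
    (hy : Odd (orderOf y)) (h : b * y * b⁻¹ = y⁻¹)
    (hi : (fx ρ b).index ^ 2 ≤ (fx ρ y).index) : fx ρ y ≤ fx ρ b := by
  have h1 : fx ρ b ⊓ fx ρ (y * b * y⁻¹) ≤ fx ρ y := by
    intro v hv
    apply fx_of_sq ρ hy
    have h2 : y * b * y⁻¹ = y * y * b := by
      have h3 : b * y⁻¹ = y * b := by
        calc b * y⁻¹ = (b * y * b⁻¹)⁻¹ * b := by group
          _ = y * b := by rw [h, inv_inv]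
      rw [mul_assoc, h3, mul_assoc]
    have h4 := hv.2
    rw [h2] at h4
    have h5 := fx_mul ρ h4 (fx_inv ρ hv.1)
    rwa [mul_inv_cancel_right] at h5
  have h2 : (fx ρ b ⊓ fx ρ (y * b * y⁻¹)).index ≤ (fx ρ y).index := by
    refine Subgroup.index_inf_le.trans ?_
    rw [index_fx_conj, ← pow_two]
    exact hi
  have h3 := eq_of_index_le h1 h2
  rw [← h3]
  exact inf_le_left

/-- **(6.3)** `|V| = q²` -/
theorem card_V (s : Six ρ R D c d) : Nat.card V = Fintype.card F ^ 2 := by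
  obtain ⟨f, hf, hF⟩ := card_pow F
  have h4 := s.four
  have hf2 : 2 ≤ f := by
    by_contra hcon
    have : f = 1 := by omega
    rw [hF, this] at h4
    norm_num at h4
  obtain ⟨l, k, hp⟩ := exists_pp (n := 2 * f) (by omega)
  obtain ⟨a, ha, ha1⟩ := exists_ne_one (T1Sl2.SU F)
  obtain ⟨y, hy, hay⟩ := SixY.exists_inverted hF hp (SU_sq ha) ha1
  have hodd : Odd (orderOf y) := by rw [hy]; exact hp.odd
  have hs1 : y ^ (l ^ (k - 1)) ≠ 1 := by
    intro h1
    have h2 := orderOf_s hp.prime hp.pos hy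
    rw [h1, orderOf_one] at h2
    exact hp.prime.one_lt.ne h2
  have h1 : Fintype.card F ^ 2 ≤ (fx ρ y).index := by
    have := index_ge s.sq ρ hp hy (nontrivial_of s.four ρ s.ne hs1)
    rwa [mul_comm 2 f, pow_mul, ← hF] at this
  have hbot : fx ρ y = ⊥ := by
    have h2 : fx ρ y ≤ LemN.cr ρ ⊤ D := by
      intro v hv
      rw [LemN.mem_cr]
      intro g _
      obtain ⟨b, hb, hb1, hby⟩ := SixY.conj_inverts hF hf hp hy g⁻¹
      have h3 : fx ρ y ≤ fx ρ (g⁻¹ * b * g⁻¹⁻¹) := by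
        apply fx_le_fx hodd hby
        rw [s.index_conj hb hb1]
        exact h1
      have h4 := h3 hv
      apply s.cfg.fx_le hb hb1
      rw [mem_fx] at h4 ⊢
      rw [inv_inv] at h4
      have h5 : ρ (g * (g⁻¹ * b * g)) v = ρ g v := by rw [map_mul, MulAut.mul_apply, h4]
      rw [show g * (g⁻¹ * b * g) = b * g by group, map_mul, MulAut.mul_apply] at h5
      exact h5
    rcases s.irr (LemN.cr ρ ⊤ D) (fun g w hw => LemN.cr_inv g (Subgroup.mem_top g) w hw) with h3 | h3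
    · rw [h3] at h2
      exact le_bot_iff.1 h2
    · exfalso
      apply s.cfg.ne_top
      rw [eq_top_iff, ← h3]
      exact LemN.cr_le
  have h2 := half' ρ hodd hay
  rw [s.index_a ha ha1] at h2
  rw [hbot, Subgroup.index_bot] at h1 h2
  exact le_antisymm h2 h1

theorem card_D (s : Six ρ R D c d) : Nat.card D * 2 ^ d = Fintype.card F ^ 2 := by
  rw [← s.card_V, ← D.card_mul_index, s.cfg.index]

/-- `|R| 2^d = q` -/
theorem card_R (s : Six ρ R D c d) : Nat.card R * 2 ^ d = Fintype.card F := by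
  have h1 := s.card_D
  rw [s.cfg.card_D s.sq, s.cfg.card, ← s.cardF] at h1
  have h2 : 0 < Fintype.card F := Fintype.card_pos
  rw [pow_two, mul_assoc] at h1
  exact Nat.eq_of_mul_eq_mul_left h2 h1

/-- `d < f` -/
theorem d_lt (s : Six ρ R D c d) : 2 ^ d < Fintype.card F := by
  by_contra hcon
  push Not at hcon
  obtain ⟨w, hw, a, ha, hne⟩ := s.nq
  have ha1 : a ≠ 1 := by
    rintro rfl
    apply hne
    rw [map_one]; rfl
  apply hne
  have h1 := s.cfg.fx_le ha ha1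
  have h2 : fx ρ a = D := eq_of_index_le h1 (by rw [s.index_a ha ha1, s.cfg.index]; exact hcon)
  rw [← h2] at hw
  exact hw

/-- `R = [D, a]` -/
theorem map_D (s : Six ρ R D c d) {a : SpecialLinearGroup (Fin 2) F} (ha : a ∈ T1Sl2.SU F) (ha1 : a ≠ 1) :
    D.map (cm ρ a) = R := by
  apply Subgroup.eq_of_le_of_card_ge
  · rintro _ ⟨w, hw, rfl⟩
    exact s.cfg.dcomm w hw a ha
  · have h1 : Nat.card (D.map (cm ρ a)) * Nat.card (fx ρ a) = Nat.card D := by
      have h2 : D.map (cm ρ a) = ((cm ρ a).comp D.subtype).range := by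
        rw [MonoidHom.range_comp, Subgroup.range_subtype]
      have h3 : ((cm ρ a).comp D.subtype).ker = (fx ρ a).subgroupOf D := by
        rw [← ker_cm]; rfl
      have h4 := ((cm ρ a).comp D.subtype).ker.card_mul_index
      rw [Subgroup.index_ker, h3, Nat.card_congr (Subgroup.subgroupOfEquivOfLe (s.cfg.fx_le ha ha1)).toEquiv] at h4
      rw [h2, mul_comm]
      exact h4
    have h2 : Nat.card (fx ρ a) = Fintype.card F := by
      have h3 := (fx ρ a).card_mul_index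
      rw [s.index_a ha ha1, s.card_V, pow_two] at h3
      exact Nat.eq_of_mul_eq_mul_right Fintype.card_pos h3
    rw [h2, s.cfg.card_D s.sq, s.cfg.card, ← s.cardF, mul_comm] at h1
    exact (Nat.eq_of_mul_eq_mul_left Fintype.card_pos h1).ge

/-- `D = [V, U]` -/
theorem D_eq (s : Six ρ R D c d) : D = CM ρ (T1Sl2.SU F : Subgroup (SpecialLinearGroup (Fin 2) F)) := by
  apply le_antisymm
  · intro x hx
    obtain ⟨v, hv⟩ := s.cfg.exists_notMem
    obtain ⟨a, ha, r, hr, rfl⟩ := s.cfg.surj v hv x hx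
    refine mul_mem (mem_CM ha v) ?_
    obtain ⟨b, hb, hb1⟩ := exists_ne_one (T1Sl2.SU F)
    rw [← s.map_D hb hb1] at hr
    obtain ⟨w, hw, rfl⟩ := hr
    exact mem_CM hb w
  · exact CM_le fun a ha v => s.cfg.comm_mem v ha

/-- elements normalising `U` -/
theorem norm_D (s : Six ρ R D c d) {t : SpecialLinearGroup (Fin 2) F} (ht : ∀ a ∈ T1Sl2.SU F, t * a * t⁻¹ ∈ T1Sl2.SU F) {v : V}
    (hv : v ∈ D) : ρ t v ∈ D := by
  rw [s.D_eq] at hv ⊢
  have h1 : CM ρ (T1Sl2.SU F : Subgroup (SpecialLinearGroup (Fin 2) F)) ≤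
      (CM ρ (T1Sl2.SU F : Subgroup (SpecialLinearGroup (Fin 2) F))).comap (ρ t : V →* V) := by
    apply CM_le
    intro a ha v
    rw [Subgroup.mem_comap]
    show ρ t (ρ a v * v⁻¹) ∈ _
    rw [map_mul, map_inv, apply_eq]
    exact mem_CM (ht a ha) _
  exact h1 hv

theorem norm_R (s : Six ρ R D c d) {t : SpecialLinearGroup (Fin 2) F} (ht : ∀ a ∈ T1Sl2.SU F, t * a * t⁻¹ ∈ T1Sl2.SU F) {v : V}
    (hv : v ∈ R) : ρ t v ∈ R := by
  obtain ⟨b, hb, hb1⟩ := exists_ne_one (T1Sl2.SU F)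
  rw [← s.map_D hb hb1] at hv
  obtain ⟨w, hw, rfl⟩ := hv
  rw [cm_apply, map_mul, map_inv, apply_eq]
  exact s.cfg.dcomm _ (s.norm_D ht hw) _ (ht b hb)

end Six

end Cfsg.Agent.OddCyclic.ClaimC.SixB
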