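import Cfsg.Agent.OddCyclic.ClaimC.SixA

/-!
# CLAIM C, section 6: the case `E ≤ K`, output (α')
-/

set_option autoImplicit false
set_option linter.unusedSectionVars false

namespace Cfsg.Agent.OddCyclic.ClaimC.SixE

open Matrix Cfsg.Agent.OddCyclic.T1Module Cfsg.Agent.OddCyclic.T1Sl2 Cfsg.Agent.OddCyclic.FFBasic
  Cfsg.Agent.OddCyclic.ClaimC.SixPP Cfsg.Agent.OddCyclic.FFRed Cfsg.Agent.OddCyclic.EmpC
  Cfsg.Agent.OddCyclic.ClaimC.SixB Cfsg.Agent.OddCyclic.ClaimC.SixT Cfsg.Agent.OddCyclic.ClaimC.SixU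
  Cfsg.Agent.OddCyclic.ClaimC.WDefs Cfsg.Agent.OddCyclic.ClaimC.Alpha Cfsg.Agent.OddCyclic.ClaimC.SixA
open Cfsg.Agent.OddCyclic.FFSl2 (index_le_of_le eq_of_index_le)
open Cfsg.Agent.OddCyclic.FFOuter (rr fx_rr ac e_ac)

variable {H : Type*} [Group H] [Finite H] {V : Type*} [CommGroup V] [Finite V]
  {F : Type*} [Field F] [Fintype F] [CharP F 2]
  {ρ : H →* MulAut V} {T : Sylow 2 H} {K E : Subgroup H} [K.Normal] {R D : Subgroup V} {c d : ℕ}

theorem card_E (s : Hyp ρ T K E R D c d F) (e : SpecialLinearGroup (Fin 2) F ≃* K) :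
    Nat.card E = Fintype.card F := by
  obtain ⟨⟨a, ha, haK, ha1⟩, hcard⟩ := s.exists_a e
  apply le_antisymm hcard
  rw [← s.index_K e haK (s.cfg.sq a ha) ha1]
  exact s.cfg.width s.sq ha ha1

/-- a standard isomorphism -/
theorem exists_std (s : Hyp ρ T K E R D c d F) (e : SpecialLinearGroup (Fin 2) F ≃* K) (hEK : E ≤ K) :
    ∃ e' : SpecialLinearGroup (Fin 2) F ≃* K, ∀ x, x ∈ T1Sl2.SU F ↔ (e' x : H) ∈ E := by
  let A : Subgroup (SpecialLinearGroup (Fin 2) F) := (E.subgroupOf K).map e.symm.toMonoidHom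
  have hmemA : ∀ x, x ∈ A ↔ (e x : H) ∈ E := by
    intro x
    constructor
    · rintro ⟨a, ha, rfl⟩
      show (e (e.symm a) : H) ∈ E
      rw [e.apply_symm_apply]
      exact ha
    · intro hx
      exact ⟨e x, hx, e.symm_apply_apply x⟩
  have h1 : Nat.card A = Nat.card E := by
    rw [Subgroup.card_map_of_injective e.symm.injective]
    exact Nat.card_congr (Subgroup.subgroupOfEquivOfLe hEK).toEquiv
  have h2 : IsPGroup 2 A := by
    rintro ⟨_, ⟨a, ha, rfl⟩⟩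
    refine ⟨1, ?_⟩
    rw [pow_one, pow_two]
    apply Subtype.ext
    show e.symm a * e.symm a = 1
    rw [← map_mul, ← map_one e.symm]
    congr 1
    exact Subtype.ext (s.cfg.sq a ha)
  obtain ⟨U, hU⟩ := h2.exists_le_sylow
  have hAU : A = (U : Subgroup _) := by
    apply Subgroup.eq_of_le_of_card_ge hU
    show Nat.card U ≤ _
    rw [card_sylow U, h1, card_E s e]
  obtain ⟨g, hg⟩ := exists_smul_SU U
  refine ⟨(MulAut.conj g).trans e, fun x => ?_⟩
  show _ ↔ (e (MulAut.conj g x) : H) ∈ E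
  rw [← hmemA, hAU, MulAut.conj_apply]
  show _ ↔ g * x * g⁻¹ ∈ U
  rw [← hg, mem_smul]
  have : g⁻¹ * (g * x * g⁻¹) * g = x := by group
  rw [this]

theorem six (s : Hyp ρ T K E R D c d F) (e : SpecialLinearGroup (Fin 2) F ≃* K) (hEK : E ≤ K)
    (he : ∀ x, x ∈ T1Sl2.SU F ↔ (e x : H) ∈ E) : Six (rr ρ e) R D c d := by
  have hirr := (s.irr e).2.2
  have hinv : ∀ W : Subgroup V, Inv (rr ρ e) W → ∀ k ∈ K, ∀ w ∈ W, ρ k w ∈ W := by
    intro W hW k hk w hw
    have := hW (e.symm ⟨k, hk⟩) w hw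
    rwa [Hyp.rr_apply, e.apply_symm_apply] at this
  have hsym : ∀ a ∈ E, ∃ x ∈ T1Sl2.SU F, (e x : H) = a := by
    intro a ha
    refine ⟨e.symm ⟨a, hEK ha⟩, ?_, ?_⟩
    · rw [he, e.apply_symm_apply]
      exact ha
    · rw [e.apply_symm_apply]
  refine ⟨?_, fun W hW => hirr W (hinv W hW), ?_, s.four, s.sq⟩
  · refine ⟨fun a ha => SU_sq ha, ?_, s.cfg.two, s.cfg.le, s.cfg.index, s.cfg.pos, ?_, ?_, ?_, ?_, ?_, ?_⟩
    · have h1 : Nat.card (T1Sl2.SU F : Subgroup (SpecialLinearGroup (Fin 2) F)) = Fintype.card F := card_sylow (T1Sl2.SU F)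
      rw [h1, ← card_E s e, s.cfg.card]
    · intro r hr a ha
      exact s.cfg.fix_apply hr ((he a).1 ha)
    · intro N hN hNi
      rcases hirr N (hinv N hNi) with h1 | h1
      · exact h1
      · exfalso
        apply s.cfg.ne_top
        rw [eq_top_iff, ← h1]
        exact hN.trans s.cfg.le
    · intro v hv a ha
      exact s.cfg.comm v hv _ ((he a).1 ha)
    · intro v hv a ha h
      have h1 := s.cfg.inj v hv _ ((he a).1 ha) h
      have h2 : e a = 1 := Subtype.ext h1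
      exact (map_eq_one_iff e e.injective).1 h2
    · intro v hv w hw
      obtain ⟨a, ha, r, hr, hwe⟩ := s.cfg.surj v hv w hw
      obtain ⟨x, hx, rfl⟩ := hsym a ha
      exact ⟨x, hx, r, hr, hwe⟩
    · intro v hv a ha
      exact s.cfg.dcomm v hv _ ((he a).1 ha)
  · obtain ⟨w, hw, a, ha, hne⟩ := s.cfg.nonquad s.sq s.nff
    obtain ⟨x, hx, rfl⟩ := hsym a ha
    exact ⟨w, hw, x, hx, hne⟩

/-- the torus in `H` -/
def jj (e : SpecialLinearGroup (Fin 2) F ≃* K) : Fˣ →* H := (K.subtype.comp e.toMonoidHom).comp dgHom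

omit [Finite H] [Fintype F] [CharP F 2] [K.Normal] in
theorem jj_apply (e : SpecialLinearGroup (Fin 2) F ≃* K) (α : Fˣ) : jj e α = (e (dg α) : H) := rfl

omit [Finite H] [Fintype F] [CharP F 2] [K.Normal] in
theorem jj_injective (e : SpecialLinearGroup (Fin 2) F ≃* K) : Function.Injective (jj e) := by
  intro α β h
  apply dgHom_injective
  apply e.injective
  exact Subtype.ext h

/-- **the case `E ≤ K`** -/
theorem alpha (s : Hyp ρ T K E R D c d F) (e₀ : SpecialLinearGroup (Fin 2) F ≃* K) (hEK : E ≤ K) :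
    ∃ T' : Subgroup H, Alpha ρ K E T' R D d ∧ Fintype.card F = (2 ^ d) ^ 2 := by
  obtain ⟨e, he⟩ := exists_std s e₀ hEK
  have h6 := six s e hEK he
  obtain ⟨hF, hR, hmD, hmR, hmDR, hpD, hpDR⟩ := final h6
  have hpow : ∀ (α : Fˣ) (n : ℕ), jj e α ^ n = 1 → α ^ n = 1 := by
    intro α n h
    apply jj_injective e
    rw [map_pow, h, map_one]
  have hne : ∀ α : Fˣ, jj e α ≠ 1 → α ≠ 1 := by
    rintro α h rfl
    exact h (map_one _)
  have hsym : ∀ a ∈ E, ∃ t : F, (e (up t) : H) = a := by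
    intro a ha
    have h1 : e.symm ⟨a, hEK ha⟩ ∈ T1Sl2.SU F := by
      rw [he, e.apply_symm_apply]
      exact ha
    obtain ⟨t, ht⟩ := mem_SU_iff.1 h1
    exact ⟨t, by rw [← ht, e.apply_symm_apply]⟩
  have hconj : ∀ (α : Fˣ) (t : F), jj e α * (e (up t) : H) * (jj e α)⁻¹ = (e (up ((α : F) * α * t)) : H) := by
    intro α t
    rw [← dg_up, map_mul, map_mul, map_inv]
    rfl
  refine ⟨(jj e).range, ?_, hF⟩
  refine ⟨s.cfg.pos, ?_, hR, s.cfg.index, ?_, hEK, ?_, ?_, (s.irr e).2.2, ?_, ?_, ?_, ?_, ?_, ?_, ?_, ?_, ?_, ?_, ?_, ?_⟩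
  · rw [card_E s e, hF]
  · rw [h6.card_V, hF]
    ring
  · rintro _ ⟨α, rfl⟩
    exact (e (dg α)).2
  · have h1 : (E.subgroupOf K).comap e.toMonoidHom = (T1Sl2.SU F : Subgroup (SpecialLinearGroup (Fin 2) F)) := by
      ext x
      exact (he x).symm
    have h2 : E.relIndex K = (T1Sl2.SU F : Subgroup (SpecialLinearGroup (Fin 2) F)).index := by
      rw [← h1, Subgroup.index_comap_of_surjective _ e.surjective]
      rfl
    rw [h2, ← Nat.not_even_iff_odd, even_iff_two_dvd]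
    have : Fact (Nat.Prime 2) := ⟨Nat.prime_two⟩
    exact (T1Sl2.SU F).not_dvd_index
  · exact isCyclic_of_surjective (jj e).rangeRestrict (jj e).rangeRestrict_surjective
  · have h1 : Nat.card (jj e).range = Nat.card Fˣ :=
      (Nat.card_congr (MonoidHom.ofInjective (jj_injective e)).toEquiv).symm
    rw [h1, card_units, hF]
  · rintro _ ⟨α, rfl⟩ a ha
    obtain ⟨t, rfl⟩ := hsym a ha
    rw [hconj]
    exact (he _).1 (mem_SU_iff.2 ⟨_, rfl⟩)
  · rintro _ ⟨α, rfl⟩ a ha ha1 h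
    by_contra hα
    apply ha1
    obtain ⟨t, rfl⟩ := hsym a ha
    have h1 : jj e α * (e (up t) : H) * (jj e α)⁻¹ = (e (up t) : H) := by rw [h, mul_inv_cancel_right]
    have h2 : e (dg α * up t * (dg α)⁻¹) = e (up t) := by
      apply Subtype.ext
      rw [map_mul, map_mul, map_inv]
      exact h1
    have h3 := eq_one_of_comm (hne α hα) (mem_SU_iff.2 ⟨t, rfl⟩) (e.injective h2)
    rw [h3, map_one]
    rfl
  · intro a ha ha1 b hb hb1
    obtain ⟨t, rfl⟩ := hsym a ha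
    obtain ⟨u, rfl⟩ := hsym b hb
    have ht : t ≠ 0 := by
      rintro rfl
      apply ha1
      rw [up_zero, map_one]; rfl
    have hu : u ≠ 0 := by
      rintro rfl
      apply hb1
      rw [up_zero, map_one]; rfl
    obtain ⟨r, hr⟩ := exists_sqrt (u / t)
    have hr0 : r ≠ 0 := by
      rintro rfl
      rw [mul_zero] at hr
      exact div_ne_zero hu ht hr.symm
    refine ⟨jj e (Units.mk0 r hr0), ⟨_, rfl⟩, ?_⟩
    rw [hconj, Units.val_mk0, hr, div_mul_cancel₀ _ ht]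
  · rintro _ ⟨α, rfl⟩ v hv
    exact tau_R h6 α v hv
  · rintro _ ⟨α, rfl⟩ v hv
    exact tau_D h6 α v hv
  · rintro _ ⟨α, rfl⟩ hα1 hα
    exact hmD α (hne α hα1) (hpow α _ hα)
  · rintro _ ⟨α, rfl⟩ hα1 hα
    exact hmR α (hne α hα1) (hpow α _ hα)
  · rintro _ ⟨α, rfl⟩ hα
    exact hmDR α (hpow α _ hα)
  · rintro _ ⟨α, rfl⟩ hα
    exact hpD α (hpow α _ hα)
  · rintro _ ⟨α, rfl⟩ hα1 hα
    exact hpDR α (hne α hα1) (hpow α _ hα)

end Cfsg.Agent.OddCyclic.ClaimC.SixE
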