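import Cfsg.Agent.OddCyclic.ClaimC.SixE

/-!
# CLAIM C, (6.2): `E ≤ K`
-/

set_option autoImplicit false
set_option linter.unusedSectionVars false

namespace Cfsg.Agent.OddCyclic.ClaimC.SixO

open Matrix Cfsg.Agent.OddCyclic.T1Module Cfsg.Agent.OddCyclic.T1Sl2 Cfsg.Agent.OddCyclic.FFBasic
  Cfsg.Agent.OddCyclic.ClaimC.SixPP Cfsg.Agent.OddCyclic.FFRed Cfsg.Agent.OddCyclic.EmpC
  Cfsg.Agent.OddCyclic.ClaimC.WDefs Cfsg.Agent.OddCyclic.ClaimC.Alpha Cfsg.Agent.OddCyclic.ClaimC.SixA
  Cfsg.Agent.Classification.QDW.TypeHom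
open Cfsg.Agent.OddCyclic.FFSl2 (index_le_of_le eq_of_index_le syl stb)
open Cfsg.Agent.OddCyclic.FFOuter (rr fx_rr ac e_ac ac_coe aut_smul fieldAut_SU fieldAut_syl syl_surjective)
open Cfsg.Agent.Lib.SL2Mat (fieldAut)
open scoped Pointwise

section general

variable {V : Type*} [CommGroup V] [Finite V]

/-- `n` involutions generate a group of order at most `2^n` -/
theorem card_closure_le (hV : ∀ v : V, v * v = 1) (S : Finset V) :
    Nat.card (Subgroup.closure (S : Set V)) ≤ 2 ^ S.card := by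
  classical
  induction S using Finset.induction_on with
  | empty => simp
  | insert a S ha ih =>
    have h1 : Subgroup.closure ((insert a S : Finset V) : Set V) =
        Subgroup.zpowers a ⊔ Subgroup.closure (S : Set V) := by
      rw [Finset.coe_insert, Set.insert_eq, Subgroup.closure_union, Subgroup.zpowers_eq_closure]
    have h2 : Nat.card (Subgroup.closure (S : Set V)) * (Subgroup.closure (S : Set V)).relIndex
        (Subgroup.zpowers a ⊔ Subgroup.closure (S : Set V)) =
        Nat.card (Subgroup.zpowers a ⊔ Subgroup.closure (S : Set V) : Subgroup V) := card_mul_relIndex le_sup_right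
    have h3 : (Subgroup.closure (S : Set V)).relIndex (Subgroup.zpowers a ⊔ Subgroup.closure (S : Set V)) ≤ 2 := by
      rw [Subgroup.relIndex_sup_right]
      have h4 : Nat.card (Subgroup.zpowers a) ∣ 2 := by
        rw [Nat.card_zpowers]
        exact orderOf_dvd_of_pow_eq_one (by rw [pow_two, hV])
      exact (Nat.le_of_dvd Nat.card_pos (Subgroup.relIndex_dvd_card _ _)).trans (Nat.le_of_dvd (by norm_num) h4)
    rw [h1, ← h2, Finset.card_insert_of_notMem ha, pow_succ]
    exact Nat.mul_le_mul ih h3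

/-- an orbit sum argument: a family of at most 6 vectors with product 1, invariant under an irreducible group -/
theorem card_le_of_family (hV : ∀ v : V, v * v = 1) {X : Type*} [Group X] (ρ : X →* MulAut V)
    (hirr : ∀ W : Subgroup V, Inv ρ W → W = ⊥ ∨ W = ⊤) {Q : Type*} [Fintype Q] (f : Q → V)
    (hinv : ∀ g q, ∃ q', ρ g (f q) = f q') (hne : ∃ q q', f q ≠ f q') (hprod : ∏ q, f q = 1)
    (hcard : Fintype.card Q ≤ 5 ∨ Fintype.card Q = 6) : Nat.card V ≤ 16 := by
  classical
  obtain ⟨q₀, q₁, h01⟩ := hne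
  let x : Q → V := fun q => f q * f q₀
  let W : Subgroup V := Subgroup.closure (Set.range x)
  have hxx : ∀ q q', f q * f q' ∈ W := by
    intro q q'
    have h1 : f q * f q' = x q * x q' := by
      show f q * f q' = (f q * f q₀) * (f q' * f q₀)
      rw [mul_mul_mul_comm, hV, mul_one]
    rw [h1]
    exact mul_mem (Subgroup.subset_closure ⟨q, rfl⟩) (Subgroup.subset_closure ⟨q', rfl⟩)
  have hW : Inv ρ W := by
    intro g
    have h1 : W ≤ W.comap (ρ g : V →* V) := by
      show Subgroup.closure _ ≤ _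
      rw [Subgroup.closure_le]
      rintro _ ⟨q, rfl⟩
      show ρ g (f q * f q₀) ∈ W
      obtain ⟨q', hq'⟩ := hinv g q
      obtain ⟨q'', hq''⟩ := hinv g q₀
      rw [map_mul, hq', hq'']
      exact hxx _ _
    exact fun w hw => h1 hw
  have htop : W = ⊤ := by
    rcases hirr W hW with h1 | h1
    · exfalso
      apply h01
      have h2 := hxx q₀ q₁
      rw [h1, Subgroup.mem_bot] at h2
      rw [mul_eq_one_iff_eq_inv.1 h2, EmpC.inv_eq hV]
    · exact h1
  have hx0 : x q₀ = 1 := hV _
  -- the generators `x q`, `q ≠ q₀` (and `q ≠ q₁` if there are six)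
  rcases hcard with hc | hc
  · have h1 : W ≤ Subgroup.closure (((Finset.univ.erase q₀).image x : Finset V) : Set V) := by
      show Subgroup.closure _ ≤ _
      rw [Subgroup.closure_le]
      rintro _ ⟨q, rfl⟩
      by_cases hq : q = q₀
      · rw [hq, hx0]; exact one_mem _
      · exact Subgroup.subset_closure (Finset.mem_coe.2 (Finset.mem_image_of_mem x
          (Finset.mem_erase.2 ⟨hq, Finset.mem_univ _⟩)))
    rw [htop, top_le_iff] at h1
    have h2 := card_closure_le hV ((Finset.univ.erase q₀).image x)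
    rw [h1, Subgroup.card_top] at h2
    have h3 : ((Finset.univ.erase q₀).image x).card ≤ 4 := by
      refine Finset.card_image_le.trans ?_
      rw [Finset.card_erase_of_mem (Finset.mem_univ _), Finset.card_univ]
      omega
    calc Nat.card V ≤ _ := h2
      _ ≤ 2 ^ 4 := Nat.pow_le_pow_right (by norm_num) h3
      _ = 16 := by norm_num
  · have hq01 : q₁ ≠ q₀ := fun h => h01 (by rw [h])
    set S := ((Finset.univ.erase q₀).erase q₁).image x with hS
    have hmem : ∀ q, q ≠ q₁ → x q ∈ Subgroup.closure (S : Set V) := by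
      intro q hq1
      by_cases hq : q = q₀
      · rw [hq, hx0]; exact one_mem _
      · exact Subgroup.subset_closure (Finset.mem_coe.2 (Finset.mem_image_of_mem x
          (Finset.mem_erase.2 ⟨hq1, Finset.mem_erase.2 ⟨hq, Finset.mem_univ _⟩⟩)))
    have hprodx : ∏ q, x q = 1 := by
      show ∏ q, f q * f q₀ = 1
      rw [Finset.prod_mul_distrib, hprod, one_mul, Finset.prod_const, Finset.card_univ, hc]
      have : f q₀ ^ 6 = (f q₀ * f q₀) ^ 3 := by rw [← pow_two, ← pow_mul]
      rw [this, hV, one_pow]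
    have hx1 : x q₁ ∈ Subgroup.closure (S : Set V) := by
      have h2 : x q₁ * ∏ q ∈ Finset.univ.erase q₁, x q = 1 := by
        rw [Finset.mul_prod_erase _ _ (Finset.mem_univ _), hprodx]
      rw [mul_eq_one_iff_eq_inv.1 h2]
      apply inv_mem
      apply Subgroup.prod_mem
      intro q hq
      exact hmem q (Finset.ne_of_mem_erase hq)
    have h1 : W ≤ Subgroup.closure (S : Set V) := by
      show Subgroup.closure _ ≤ _
      rw [Subgroup.closure_le]
      rintro _ ⟨q, rfl⟩
      by_cases hq : q = q₁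
      · rw [hq]; exact hx1
      · exact hmem q hq
    rw [htop, top_le_iff] at h1
    have h2 := card_closure_le hV S
    rw [h1, Subgroup.card_top] at h2
    have h3 : S.card ≤ 4 := by
      refine Finset.card_image_le.trans ?_
      rw [Finset.card_erase_of_mem (Finset.mem_erase.2 ⟨hq01, Finset.mem_univ _⟩),
        Finset.card_erase_of_mem (Finset.mem_univ _), Finset.card_univ]
      omega
    calc Nat.card V ≤ _ := h2
      _ ≤ 2 ^ 4 := Nat.pow_le_pow_right (by norm_num) h3
      _ = 16 := by norm_num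

end general

variable {F : Type*} [Field F] [Fintype F] [CharP F 2] {V : Type*} [CommGroup V] [Finite V]

theorem pp5 : PP (2 * 2) 5 1 := by
  refine ⟨by norm_num, by norm_num, le_rfl, by norm_num, ?_⟩
  intro m hm h
  by_contra hcon
  have : m < 4 := by omega
  interval_cases m <;> revert h <;> norm_num

/-- `|V| = 16` for the irreducible modules of `SL₂(4)` with `|V : C_V(a)| = 4` -/
theorem card_V (hF : Fintype.card F = 4) (hV : ∀ v : V, v * v = 1) (ρ : SpecialLinearGroup (Fin 2) F →* MulAut V)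
    (hirr : ∀ W : Subgroup V, Inv ρ W → W = ⊥ ∨ W = ⊤) (hC : ∀ v, (∀ g, ρ g v = v) → v = 1)
    (hne : ∃ g v, ρ g v ≠ v) (hidx : ∀ a : SpecialLinearGroup (Fin 2) F, a * a = 1 → a ≠ 1 → (fx ρ a).index = 4) :
    Nat.card V = 16 := by
  classical
  have hF2 : Fintype.card F = 2 ^ 2 := by rw [hF]; norm_num
  obtain ⟨a, ha, ha1⟩ := exists_ne_one (T1Sl2.SU F)
  obtain ⟨y, hy, hay⟩ := SixY.exists_inverted hF2 pp5 (SU_sq ha) ha1
  rw [pow_one] at hy
  have hodd : Odd (orderOf y) := by rw [hy]; decide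
  have hy1 : y ≠ 1 := by rintro rfl; rw [orderOf_one] at hy; omega
  have h1 : 16 ≤ (fx ρ y).index := by
    have := index_ge hV ρ pp5 (y := y) (by rw [hy, pow_one]) (by
      rw [Nat.sub_self, pow_zero, pow_one]
      exact nontrivial_of (by omega) ρ hne hy1)
    calc 16 = 2 ^ (2 * 2) := by norm_num
      _ ≤ _ := this
  have h2 : (fx ρ y).index ≤ 16 := by
    have := half' ρ hodd hay
    rw [hidx a (SU_sq ha) ha1] at this
    exact this
  have h16 : (fx ρ y).index = 16 := le_antisymm h2 h1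
  have hya : fx ρ y ≤ fx ρ a := SixB.fx_le_fx hodd hay (by rw [hidx a (SU_sq ha) ha1]; exact h1)
  have hcm := (fx ρ y).card_mul_index
  rw [h16] at hcm
  suffices hbot : fx ρ y = ⊥ by
    rw [hbot, Subgroup.card_bot] at hcm
    omega
  by_contra hbot
  obtain ⟨⟨u, hu⟩, hu1'⟩ := Subgroup.ne_bot_iff_exists_ne_one.1 hbot
  have hu1 : u ≠ 1 := fun h => hu1' (Subtype.ext h)
  have hcard2 : 2 ≤ Nat.card (fx ρ y) := by
    by_contra hcon
    have h3 : Nat.card (fx ρ y) ≤ 1 := by omega
    exact hbot ((Subgroup.card_le_one_iff_eq_bot _).1 h3)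
  set St := stb ρ u with hSt
  have h5 : 5 ∣ Nat.card St := by
    rw [← hy]
    exact Subgroup.orderOf_dvd_natCard St (show y ∈ St from hu)
  have h2' : 2 ∣ Nat.card St := by
    have h3 : orderOf a = 2 := orderOf_eq_prime (by rw [pow_two]; exact SU_sq ha) ha1
    have h4 := Subgroup.orderOf_dvd_natCard St (show a ∈ St from hya hu)
    rwa [h3] at h4
  have h10 : 10 ∣ Nat.card St := Nat.Coprime.mul_dvd_of_dvd_of_dvd (by norm_num : Nat.Coprime 5 2) h5 h2'
  have h60 := St.card_mul_index
  have h60' : Nat.card (SpecialLinearGroup (Fin 2) F) = 60 := by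
    rw [card_sl2, hF]
  rw [h60'] at h60
  obtain ⟨m, hm⟩ := h10
  rw [hm] at h60
  have h6 : m * St.index = 6 := by
    have : 10 * (m * St.index) = 10 * 6 := by rw [← mul_assoc, h60]
    omega
  let _ : Fintype (SpecialLinearGroup (Fin 2) F ⧸ St) := Fintype.ofFinite _
  have hcQ : Fintype.card (SpecialLinearGroup (Fin 2) F ⧸ St) = St.index := by
    rw [← Nat.card_eq_fintype_card]; rfl
  let f : SpecialLinearGroup (Fin 2) F ⧸ St → V := Quotient.lift (fun g => ρ g u) (by
    intro a b hab
    have h1 : a⁻¹ * b ∈ St := QuotientGroup.leftRel_apply.1 hab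
    have h3 : ρ (a⁻¹ * b) u = u := h1
    show ρ a u = ρ b u
    conv_lhs => rw [← h3]
    rw [← MulAut.mul_apply, ← map_mul, mul_inv_cancel_left])
  have hf : ∀ g : SpecialLinearGroup (Fin 2) F, f (g : _ ⧸ St) = ρ g u := fun g => rfl
  have hfg : ∀ g q, ρ g (f q) = f (g • q) := by
    intro g q
    obtain ⟨q, rfl⟩ := QuotientGroup.mk_surjective q
    show ρ g (f (q : _ ⧸ St)) = f ((g * q : SpecialLinearGroup (Fin 2) F) : _ ⧸ St)
    rw [hf, hf, map_mul, MulAut.mul_apply]
  have h7 := card_le_of_family hV ρ hirr f (fun g q => ⟨_, hfg g q⟩) ?_ ?_ ?_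
  · have : 2 * 16 ≤ Nat.card (fx ρ y) * 16 := Nat.mul_le_mul_right _ hcard2
    omega
  · by_contra hcon
    push Not at hcon
    apply hu1
    apply hC
    intro g
    have h8 := hcon ((g : SpecialLinearGroup (Fin 2) F) : _ ⧸ St) ((1 : SpecialLinearGroup (Fin 2) F) : _ ⧸ St)
    rw [hf, hf, map_one] at h8
    exact h8
  · apply hC
    intro g
    rw [map_prod]
    exact Fintype.prod_equiv (MulAction.toPerm g) _ _ (fun q => hfg g q)
  · rw [hcQ]
    have h9 : St.index ∣ 6 := Dvd.intro_left _ h6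
    have h10 := Nat.le_of_dvd (by norm_num) h9
    omega

section outer

variable {H : Type*} [Group H] [Finite H]
  {ρ : H →* MulAut V} {T : Sylow 2 H} {K E : Subgroup H} [K.Normal] {R D : Subgroup V} {c d : ℕ}

/-- the fixed vectors of the Sylow 2-subgroups are permuted -/
theorem CS_ac (e : SpecialLinearGroup (Fin 2) F ≃* K) (t : H) (U : Sylow 2 (SpecialLinearGroup (Fin 2) F)) {v : V}
    (hv : v ∈ CS (rr ρ e) (U : Subgroup _)) : ρ t v ∈ CS (rr ρ e) ((ac e t • U : Sylow 2 _) : Subgroup _) := by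
  intro x hx
  have h1 : (ac e t)⁻¹ x ∈ U := by
    have h2 : x ∈ (ac e t) • (U : Subgroup (SpecialLinearGroup (Fin 2) F)) := hx
    rw [Subgroup.mem_pointwise_smul_iff_inv_smul_mem] at h2
    exact h2
  set z := (ac e t)⁻¹ x with hz
  have hxz : x = ac e t z := by rw [hz, ← MulAut.mul_apply, mul_inv_cancel]; rfl
  show ρ (e x : H) (ρ t v) = ρ t v
  have h3 : (e x : H) = t * e z * t⁻¹ := by rw [hxz, e_ac]
  have h4 : ρ (e z : H) v = v := hv z h1
  have h5 : ρ t⁻¹ (ρ t v) = v := by
    rw [← MulAut.mul_apply, ← map_mul, inv_mul_cancel, map_one]; rfl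
  rw [h3, map_mul, map_mul, MulAut.mul_apply, MulAut.mul_apply, h5, h4]

theorem card_V' (s : Hyp ρ T K E R D c d F) (e : SpecialLinearGroup (Fin 2) F ≃* K) (hF : Fintype.card F = 4) :
    Nat.card V = 16 := by
  obtain ⟨hbot, -, hirr⟩ := s.irr e
  apply card_V hF s.sq (rr ρ e)
  · intro W hW
    apply hirr
    intro k hk w hw
    have := hW (e.symm ⟨k, hk⟩) w hw
    rwa [Hyp.rr_apply, e.apply_symm_apply] at this
  · intro v hv
    rw [← Subgroup.mem_bot, ← hbot]
    intro k hk
    have := hv (e.symm ⟨k, hk⟩)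
    rwa [Hyp.rr_apply, e.apply_symm_apply] at this
  · exact WO.orr_ne s.four e s.fw
  · intro a ha ha1
    rw [fx_rr, ← hF]
    refine s.index_K e (e a).2 ?_ ?_
    · rw [← Subgroup.coe_mul, ← map_mul, ha, map_one]; rfl
    · intro h
      apply ha1
      have h1 : e a = 1 := Subtype.ext h
      exact (map_eq_one_iff e e.injective).1 h1

/-- `|C_V(U)| = 2` -/
theorem card_CS (s : Hyp ρ T K E R D c d F) (e : SpecialLinearGroup (Fin 2) F ≃* K) (hF : Fintype.card F = 4)
    (U : Sylow 2 (SpecialLinearGroup (Fin 2) F)) : Nat.card (CS (rr ρ e) (U : Subgroup _)) = 2 := by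
  have h16 := card_V' s e hF
  have hnt : Nontrivial V := Finite.one_lt_card_iff_nontrivial.1 (by omega)
  have hne := CS_ne_bot (rr ρ e) s.sq U
  set A : Subgroup H := (U : Subgroup (SpecialLinearGroup (Fin 2) F)).map (K.subtype.comp e.toMonoidHom) with hA
  have hCS : CS ρ A = CS (rr ρ e) (U : Subgroup _) := by
    ext v
    constructor
    · intro hv x hx
      exact hv _ ⟨x, hx, rfl⟩
    · rintro hv _ ⟨x, hx, rfl⟩
      exact hv x hx
  have hcA : Nat.card A = 4 := by
    have hinj : Function.Injective (K.subtype.comp e.toMonoidHom) := fun x y h => e.injective (Subtype.ext h)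
    rw [Subgroup.card_map_of_injective hinj, ← hF]
    exact card_sylow U
  have h1 := s.nff A (by
    rintro _ ⟨x, hx, rfl⟩
    rw [← map_mul, sylow_elem U x hx, map_one]) (by
    intro h
    rw [h, Subgroup.card_bot] at hcA
    omega)
  rw [hcA, hCS] at h1
  have h2 := (CS (rr ρ e) (U : Subgroup _)).card_mul_index
  rw [h16] at h2
  have h3 : Nat.card (CS (rr ρ e) (U : Subgroup _)) ≠ 1 := fun h => hne (Subgroup.card_eq_one.1 h)
  have h4 : 0 < Nat.card (CS (rr ρ e) (U : Subgroup _)) := Nat.card_pos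
  obtain ⟨n, hn⟩ : ∃ n, Nat.card (CS (rr ρ e) (U : Subgroup _)) = n := ⟨_, rfl⟩
  obtain ⟨m, hm⟩ : ∃ m, (CS (rr ρ e) (U : Subgroup _)).index = m := ⟨_, rfl⟩
  rw [hn] at h2 h3 h4 ⊢
  rw [hm] at h2 h1
  by_contra hcon
  have h5 : 3 ≤ n := by omega
  have h6 : 3 * 5 ≤ n * m := Nat.mul_le_mul h5 h1
  have h7 : n ≤ 3 := by
    by_contra h8
    have : 4 * 5 ≤ n * m := Nat.mul_le_mul (by omega) h1
    omega
  have h8 : n = 3 := by omega
  rw [h8] at h2
  omega

/-- `|V : C_V(t)| ≤ 2` for `t ∈ E ∖ K` -/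
theorem index_le_two (s : Hyp ρ T K E R D c d F) (e : SpecialLinearGroup (Fin 2) F ≃* K) (hF : Fintype.card F = 4)
    {t : H} (ht : t ∈ E) (htK : t ∉ K) : (fx ρ t).index ≤ 2 := by
  classical
  have hc := card_CS s e hF
  have hz : ∀ U : Sylow 2 (SpecialLinearGroup (Fin 2) F), ∃ z ∈ CS (rr ρ e) (U : Subgroup _), z ≠ 1 ∧
      ∀ x ∈ CS (rr ρ e) (U : Subgroup _), x ≠ 1 → x = z := by
    intro U
    obtain ⟨a, b, hab, hab'⟩ := Nat.card_eq_two_iff.1 (hc U)
    have hmem : ∀ x : CS (rr ρ e) (U : Subgroup _), x = a ∨ x = b := by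
      intro x
      have : x ∈ ({a, b} : Set _) := by rw [hab']; trivial
      simpa using this
    rcases hmem 1 with h1 | h1
    · refine ⟨b, b.2, fun h => hab ?_, fun x hx hx1 => ?_⟩
      · rw [← h1]; exact Subtype.ext h.symm
      · rcases hmem ⟨x, hx⟩ with h2 | h2
        · exfalso; apply hx1
          rw [← h1] at h2
          exact congrArg Subtype.val h2
        · exact congrArg Subtype.val h2
    · refine ⟨a, a.2, fun h => hab ?_, fun x hx hx1 => ?_⟩
      · rw [← h1]; exact Subtype.ext h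
      · rcases hmem ⟨x, hx⟩ with h2 | h2
        · exact congrArg Subtype.val h2
        · exfalso; apply hx1
          rw [← h1] at h2
          exact congrArg Subtype.val h2
  choose z hz1 hz2 hz3 using hz
  have hact : ∀ (h : H) (U : Sylow 2 (SpecialLinearGroup (Fin 2) F)), ρ h (z U) = z (ac e h • U) := by
    intro h U
    apply hz3 _ _ (CS_ac e h U (hz1 U))
    intro h1
    apply hz2 U
    apply (ρ h).injective
    rw [h1, map_one]
  -- the span of the fixed vectors
  have hspan : Subgroup.closure (Set.range z) = ⊤ := by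
    have hinv : ∀ k ∈ K, ∀ w ∈ Subgroup.closure (Set.range z), ρ k w ∈ Subgroup.closure (Set.range z) := by
      intro k _
      have h1 : Subgroup.closure (Set.range z) ≤ (Subgroup.closure (Set.range z)).comap (ρ k : V →* V) := by
        rw [Subgroup.closure_le]
        rintro _ ⟨U, rfl⟩
        show ρ k (z U) ∈ Subgroup.closure (Set.range z)
        rw [hact]
        exact Subgroup.subset_closure ⟨_, rfl⟩
      exact fun w hw => h1 hw
    rcases (s.irr e).2.2 _ hinv with h1 | h1
    · exfalso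
      apply hz2 (T1Sl2.SU F)
      have h2 : z (T1Sl2.SU F) ∈ Subgroup.closure (Set.range z) := Subgroup.subset_closure ⟨_, rfl⟩
      rwa [h1, Subgroup.mem_bot] at h2
    · exact h1
  -- the standard form of `t`
  set σ := typ (ac e t) with hσ
  have hσ1 : σ ≠ 1 := WO.otyp_ne e s.fw ht htK
  obtain ⟨g, hg⟩ := L2Model.exists_std (WO.oac_sq e s.fw ht) hσ1
  rw [← hσ] at hg
  have hsm : ∀ i, ac e t • g • syl F i = g • fieldAut σ • syl F i := by
    intro i
    have h1 : ac e t • g • syl F i = (MulAut.conj g * fieldAut σ * (MulAut.conj g)⁻¹) • MulAut.conj g • syl F i := by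
      rw [← hg]; rfl
    rw [h1, smul_smul, mul_assoc, inv_mul_cancel, mul_one, mul_smul]
    rfl
  set x : Option F → V := fun i => z (g • syl F i) with hx
  have hx0 : ρ t (x none) = x none := by
    show ρ t (z _) = z _
    rw [hact, hsm]
    congr 2
    exact fieldAut_SU σ
  have hxs : ∀ r : F, ρ t (x (some r)) = x (some (σ r)) := by
    intro r
    show ρ t (z _) = z _
    rw [hact, hsm, fieldAut_syl]
  obtain ⟨r, hr⟩ : ∃ r, σ r ≠ r := by
    by_contra hcon
    push Not at hcon
    exact hσ1 (RingEquiv.ext hcon)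
  have hr0 : r ≠ 0 := by rintro rfl; exact hr (map_zero σ)
  have hr1 : r ≠ 1 := by rintro rfl; exact hr (map_one σ)
  have hsr0 : σ r ≠ 0 := fun h => hr0 (by rwa [map_eq_zero_iff σ σ.injective] at h)
  have hsr1 : σ r ≠ 1 := fun h => hr1 (by rwa [map_eq_one_iff σ σ.injective] at h)
  have huniv : ∀ y : F, y = 0 ∨ y = 1 ∨ y = r ∨ y = σ r := by
    have h1 : ({0, 1, r, σ r} : Finset F) = Finset.univ := by
      rw [← Finset.card_eq_iff_eq_univ, hF, Finset.card_insert_of_notMem, Finset.card_insert_of_notMem,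
        Finset.card_insert_of_notMem, Finset.card_singleton]
      · simpa using hr.symm
      · simp only [Finset.mem_insert, Finset.mem_singleton, not_or]
        exact ⟨hr1.symm, hsr1.symm⟩
      · simp only [Finset.mem_insert, Finset.mem_singleton, not_or]
        exact ⟨zero_ne_one, hr0.symm, hsr0.symm⟩
    intro y
    have : y ∈ ({0, 1, r, σ r} : Finset F) := by rw [h1]; exact Finset.mem_univ _
    simpa using this
  set w := x (some r) with hw
  have htt : ∀ v : V, ρ t (ρ t v) = v := by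
    intro v
    rw [← MulAut.mul_apply, ← map_mul, s.cfg.sq t ht, map_one]; rfl
  have hwt : ρ t w ∈ fx ρ t ⊔ Subgroup.zpowers w := by
    have h1 : ρ t w * w ∈ fx ρ t := by
      rw [mem_fx, map_mul, htt, mul_comm]
    have h2 : ρ t w = (ρ t w * w) * w := by rw [mul_assoc, s.sq, mul_one]
    rw [h2]
    exact mul_mem (Subgroup.mem_sup_left h1) (Subgroup.mem_sup_right (Subgroup.mem_zpowers w))
  have htop : fx ρ t ⊔ Subgroup.zpowers w = ⊤ := by
    rw [eq_top_iff, ← hspan, Subgroup.closure_le]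
    rintro _ ⟨U, rfl⟩
    obtain ⟨i, hi⟩ := syl_surjective (g⁻¹ • U)
    have hU : U = g • syl F i := by rw [hi, smul_inv_smul]
    rw [hU]
    show x i ∈ _
    cases i with
    | none => exact Subgroup.mem_sup_left hx0
    | some y =>
      rcases huniv y with rfl | rfl | rfl | rfl
      · apply Subgroup.mem_sup_left
        rw [mem_fx, hxs, map_zero]
      · apply Subgroup.mem_sup_left
        rw [mem_fx, hxs, map_one]
      · exact Subgroup.mem_sup_right (Subgroup.mem_zpowers w)
      · rw [← hxs]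
        exact hwt
  have h1 : (fx ρ t).index = (fx ρ t).relIndex (Subgroup.zpowers w) := by
    rw [← Subgroup.relIndex_top_right, ← htop, sup_comm, Subgroup.relIndex_sup_right]
  rw [h1]
  have h4 : Nat.card (Subgroup.zpowers w) ∣ 2 := by
    rw [Nat.card_zpowers]
    exact orderOf_dvd_of_pow_eq_one (by rw [pow_two, s.sq])
  exact (Nat.le_of_dvd Nat.card_pos (Subgroup.relIndex_dvd_card _ _)).trans (Nat.le_of_dvd (by norm_num) h4)

/-- **(6.2)** -/
theorem E_le (s : Hyp ρ T K E R D c d F) (e : SpecialLinearGroup (Fin 2) F ≃* K) : E ≤ K := by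
  by_contra hEK
  have hF := WO.ocard_eq s.four e s.fw s.sq hEK
  obtain ⟨⟨a, ha, haK, ha1⟩, -⟩ := s.exists_a e
  obtain ⟨t, ht, htK⟩ := SetLike.not_le_iff_exists.1 hEK
  have hatK : a * t ∉ K := by
    intro h
    apply htK
    have := mul_mem (inv_mem haK) h
    rwa [inv_mul_cancel_left] at this
  have ht1 : t ≠ 1 := by rintro rfl; exact htK (one_mem K)
  have hat1 : a * t ≠ 1 := fun h => hatK (by rw [h]; exact one_mem K)
  have hD2 : 2 ≤ D.index := by
    rw [s.cfg.index]
    calc 2 = 2 ^ 1 := by norm_num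
      _ ≤ 2 ^ d := Nat.pow_le_pow_right (by norm_num) s.cfg.pos
  have h1 : fx ρ t = D := eq_of_index_le (s.cfg.fx_le ht ht1) ((index_le_two s e hF ht htK).trans hD2)
  have h2 : fx ρ (a * t) = D := eq_of_index_le (s.cfg.fx_le (mul_mem ha ht) hat1)
    ((index_le_two s e hF (mul_mem ha ht) hatK).trans hD2)
  have h3 : D ≤ fx ρ a := by
    intro v hv
    have h4 : v ∈ fx ρ (a * t) := by rw [h2]; exact hv
    have h5 : v ∈ fx ρ t := by rw [h1]; exact hv
    have h6 := fx_mul ρ h4 (fx_inv ρ h5)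
    rwa [mul_inv_cancel_right] at h6
  have h4 := index_le_of_le h3
  rw [← h1] at h4
  have h5 := index_le_two s e hF ht htK
  have h6 := s.index_K e haK (s.cfg.sq a ha) ha1
  omega

end outer

end Cfsg.Agent.OddCyclic.ClaimC.SixO
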