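import Mathlib
import Cfsg.Agent.OddCyclic.EmpC.Irr
import Cfsg.Agent.Lib.Zsigmondy

/-!
# CLAIM C, section 6: elements of prime power order on elementary abelian 2-groups

* `exists_pp` : for `n ≥ 2` there is an odd prime power `l^k` dividing `2^n - 1` and no `2^m - 1` with `0 < m < n`;
* `card_ge` : an element `y` of order `l^k` acting on `W`, `y^(l^(k-1))` without fixed points: `|W| ≥ 2^n`;
* `lift` : fixed points in quotients for elements of odd order.
-/

set_option autoImplicit false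
set_option linter.unusedSectionVars false

namespace Cfsg.Agent.OddCyclic.ClaimC.SixPP

open Cfsg.Agent.OddCyclic.T1Module Cfsg.Agent.OddCyclic.FFBasic

/-- `l^k` is a primitive odd prime power divisor of `2^n - 1` -/
structure PP (n l k : ℕ) : Prop where
  prime : l.Prime
  ne : l ≠ 2
  pos : 1 ≤ k
  dvd : l ^ k ∣ 2 ^ n - 1
  min : ∀ m, 0 < m → l ^ k ∣ 2 ^ m - 1 → n ≤ m

theorem exists_pp {n : ℕ} (hn : 2 ≤ n) : ∃ l k, PP n l k := by
  by_cases h6 : n = 6
  · subst h6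
    refine ⟨3, 2, by norm_num, by norm_num, by norm_num, by norm_num, ?_⟩
    intro m hm h
    by_contra hcon
    have : m < 6 := by omega
    interval_cases m <;> revert h <;> norm_num
  · obtain ⟨l, hl, hl1, hl2, hl3⟩ := Lib.Zsigmondy.exists_primitive (a := 2) (n := n) le_rfl hn
      (fun _ => by
        rintro ⟨k, hk⟩
        rcases Nat.eq_zero_or_pos k with h0 | h0
        · rw [h0] at hk; omega
        · have : 2 ∣ 2 ^ k := dvd_pow_self 2 h0.ne'
          rw [← hk] at this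
          omega)
      (fun h => h6 h.2)
    refine ⟨l, 1, hl, fun h => hl3 (by rw [h]), le_rfl, ?_, ?_⟩
    · rw [pow_one]; exact (hl1 n).2 dvd_rfl
    · intro m hm h
      rw [pow_one] at h
      exact Nat.le_of_dvd hm ((hl1 m).1 h)

namespace PP

variable {n l k : ℕ}

theorem odd (h : PP n l k) : Odd (l ^ k) := (h.prime.odd_of_ne_two h.ne).pow

theorem one_lt (h : PP n l k) : 1 < l ^ k := Nat.one_lt_pow (by have := h.pos; omega) h.prime.one_lt

theorem not_dvd_two (h : PP n l k) : ¬ l ^ k ∣ 2 := by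
  intro h1
  have h2 := Nat.le_of_dvd (by norm_num) h1
  have h3 := h.one_lt
  have h4 := h.odd
  have h5 : l ^ k = 2 := by omega
  rw [h5] at h4
  exact absurd h4 (by decide)

end PP

variable {X V : Type*} [Group X] [CommGroup V]

theorem dvd_card [Finite V] (ρ : X →* MulAut V) {y : X} {l k : ℕ} (hl : l.Prime) (hk : 1 ≤ k) (hy : orderOf y = l ^ k)
    {W : Subgroup V} (hW : ∀ w ∈ W, ρ y w ∈ W) (hf : ∀ w ∈ W, ρ (y ^ (l ^ (k - 1))) w = w → w = 1) :
    l ^ k ∣ Nat.card W - 1 := by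
  have hfin : Finite (Subgroup.zpowers y) :=
    Nat.finite_of_card_ne_zero (by rw [Nat.card_zpowers, hy]; exact pow_ne_zero _ hl.ne_zero)
  have hfo : 0 < orderOf y := by rw [hy]; exact pow_pos hl.pos _
  have hWn : ∀ m : ℕ, ∀ w ∈ W, ρ (y ^ m) w ∈ W := by
    intro m
    induction m with
    | zero => intro w hw; rw [pow_zero, map_one]; exact hw
    | succ m ih =>
      intro w hw
      rw [pow_succ, map_mul, MulAut.mul_apply]
      exact ih _ (hW w hw)
  have hpow : ∀ d ∈ Subgroup.zpowers y, ∃ m : ℕ, y ^ m = d := by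
    intro d hd
    rw [← (isOfFinOrder_iff_pow_eq_one.2 ⟨orderOf y, hfo, pow_orderOf_eq_one y⟩).mem_powers_iff_mem_zpowers] at hd
    exact hd
  have h := card_dvd_sub_one (K := V) (D := Subgroup.zpowers y) (ρ.comp (Subgroup.zpowers y).subtype) W ?_ ?_
  · rwa [Nat.card_zpowers, hy] at h
  · rintro ⟨d, hd⟩ c hc
    obtain ⟨m, rfl⟩ := hpow d hd
    exact hWn m c hc
  · rintro ⟨d, hd⟩ c hc hc1 hfix
    obtain ⟨m, rfl⟩ := hpow d hd
    by_contra hne
    have hd1 : y ^ m ≠ 1 := fun h => hne (Subtype.ext h)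
    apply hc1
    apply hf c hc
    -- `g = gcd (m, l^k) = l^i`, `i < k`
    have h1 : (Nat.gcd m (orderOf y)) ∣ l ^ k := by rw [← hy]; exact Nat.gcd_dvd_right _ _
    obtain ⟨i, hik, hi⟩ := (Nat.dvd_prime_pow hl).1 h1
    have h2 : i ≠ k := by
      rintro rfl
      apply hd1
      apply orderOf_dvd_iff_pow_eq_one.1
      rw [hy, ← hi]
      exact Nat.gcd_dvd_left _ _
    have h3 : i ≤ k - 1 := by omega
    have h4 : c ∈ fx ρ (y ^ (l ^ i)) := by
      have h5 : y ^ (l ^ i) = (y ^ m) ^ (Nat.gcdA m (orderOf y)) := by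
        rw [← hi, ← zpow_natCast y (Nat.gcd m (orderOf y)), Nat.gcd_eq_gcd_ab, zpow_add, zpow_mul, zpow_mul,
          zpow_natCast, zpow_natCast, pow_orderOf_eq_one, one_zpow, mul_one]
      have h6 : c ∈ fx ρ (y ^ m) := hfix
      rw [h5]
      obtain ⟨j, hj | hj⟩ := (Nat.gcdA m (orderOf y)).eq_nat_or_neg
      · rw [hj, zpow_natCast]; exact fx_pow ρ h6 j
      · rw [hj, zpow_neg, zpow_natCast]; exact fx_inv ρ (fx_pow ρ h6 j)
    have h5 : y ^ (l ^ (k - 1)) = (y ^ (l ^ i)) ^ (l ^ (k - 1 - i)) := by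
      rw [← pow_mul, ← pow_add]
      congr 2
      omega
    rw [h5]
    exact fx_pow ρ h4 _

/-- `|W| ≥ 2^n` -/
theorem card_ge [Finite V] (hV : ∀ v : V, v * v = 1) (ρ : X →* MulAut V) {y : X} {n l k : ℕ} (h : PP n l k)
    (hy : orderOf y = l ^ k) {W : Subgroup V} (hW : ∀ w ∈ W, ρ y w ∈ W)
    (hf : ∀ w ∈ W, ρ (y ^ (l ^ (k - 1))) w = w → w = 1) (hne : W ≠ ⊥) : 2 ^ n ≤ Nat.card W := by
  have h1 := dvd_card ρ h.prime h.pos hy hW hf
  have : Fact (Nat.Prime 2) := ⟨Nat.prime_two⟩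
  obtain ⟨m, hm⟩ := ((isPGroup_two hV).to_subgroup W).exists_card_eq
  rw [hm] at h1 ⊢
  have h2 : 0 < m := by
    rcases Nat.eq_zero_or_pos m with h3 | h3
    · exfalso
      rw [h3, pow_zero] at hm
      exact hne (Subgroup.card_eq_one.1 hm)
    · exact h3
  exact Nat.pow_le_pow_right (by norm_num) (h.min m h2 h1)

theorem orderOf_s {y : X} {l k : ℕ} (hl : l.Prime) (hk : 1 ≤ k) (hy : orderOf y = l ^ k) :
    orderOf (y ^ (l ^ (k - 1))) = l := by
  have h1 : l ^ (k - 1) ≠ 0 := pow_ne_zero _ hl.ne_zero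
  rw [orderOf_pow_of_dvd h1 (by rw [hy]; exact pow_dvd_pow _ (by omega)), hy]
  have h2 : l ^ k = l ^ (k - 1) * l := by rw [← pow_succ]; congr 1; omega
  rw [h2, Nat.mul_div_cancel_left _ (Nat.pos_of_ne_zero h1)]

/-- `|V : C_V(y)| ≥ 2^n` -/
theorem index_ge [Finite V] (hV : ∀ v : V, v * v = 1) (ρ : X →* MulAut V) {y : X} {n l k : ℕ} (h : PP n l k)
    (hy : orderOf y = l ^ k) (hne : ∃ v, ρ (y ^ (l ^ (k - 1))) v ≠ v) : 2 ^ n ≤ (fx ρ y).index := by
  set s := y ^ (l ^ (k - 1)) with hs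
  have hso : orderOf s = l := orderOf_s h.prime h.pos hy
  have hodd : Odd (orderOf s) := by rw [hso]; exact h.prime.odd_of_ne_two h.ne
  have h1 : 2 ^ n ≤ Nat.card (cm ρ s).range := by
    refine card_ge hV ρ h hy ?_ ?_ ?_
    · intro w hw
      exact apply_mem_range ρ (by rw [hs]; exact (Commute.pow_right rfl _).eq) hw
    · intro w hw hf
      exact eq_one_of_fix hV hodd hw hf
    · obtain ⟨v, hv⟩ := hne
      intro h2
      apply hv
      have h3 : cm ρ s v ∈ (cm ρ s).range := ⟨v, rfl⟩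
      rwa [h2, Subgroup.mem_bot, cm_apply, mul_inv_eq_one] at h3
  rw [card_range_cm] at h1
  refine h1.trans ?_
  have h2 : fx ρ y ≤ fx ρ s := fun v hv => fx_pow ρ hv _
  exact Nat.le_of_dvd (Nat.pos_of_ne_zero Subgroup.index_ne_zero_of_finite) (Subgroup.index_dvd_of_le h2)

/-- an invariant subgroup smaller than `2^n` is centralised by `y^(l^(k-1))` -/
theorem trivial_of_lt [Finite V] (hV : ∀ v : V, v * v = 1) (ρ : X →* MulAut V) {y : X} {n l k : ℕ} (h : PP n l k)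
    (hy : orderOf y = l ^ k) {W : Subgroup V} (hW : ∀ w ∈ W, ρ y w ∈ W) (hlt : Nat.card W < 2 ^ n) :
    ∀ w ∈ W, ρ (y ^ (l ^ (k - 1))) w = w := by
  set s := y ^ (l ^ (k - 1)) with hs
  have hso : orderOf s = l := orderOf_s h.prime h.pos hy
  have hodd : Odd (orderOf s) := by rw [hso]; exact h.prime.odd_of_ne_two h.ne
  have hys : y * s = s * y := by rw [hs]; exact (Commute.pow_right rfl _).eq
  have hWs : ∀ w ∈ W, ρ s w ∈ W := by
    have : ∀ m : ℕ, ∀ w ∈ W, ρ (y ^ m) w ∈ W := by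
      intro m
      induction m with
      | zero => intro w hw; rw [pow_zero, map_one]; exact hw
      | succ m ih =>
        intro w hw
        rw [pow_succ, map_mul, MulAut.mul_apply]
        exact ih _ (hW w hw)
    exact this _
  by_contra hcon
  push Not at hcon
  obtain ⟨w, hw, hne⟩ := hcon
  have h1 : W.map (cm ρ s) ≤ W := by
    rintro _ ⟨w, hw, rfl⟩
    exact mul_mem (hWs w hw) (inv_mem hw)
  have h2 := card_ge hV ρ h hy (W := W.map (cm ρ s)) ?_ ?_ ?_
  · have h3 := Subgroup.card_le_of_le h1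
    omega
  · rintro _ ⟨w, hw, rfl⟩
    refine ⟨ρ y w, hW w hw, ?_⟩
    rw [cm_apply, cm_apply, map_mul, map_inv, ← MulAut.mul_apply, ← MulAut.mul_apply, ← map_mul, ← map_mul, hys]
  · rintro _ ⟨w, hw, rfl⟩ hf
    exact eq_one_of_fix hV hodd ⟨w, rfl⟩ hf
  · intro h3
    apply hne
    have h4 : cm ρ s w ∈ W.map (cm ρ s) := ⟨w, hw, rfl⟩
    rwa [h3, Subgroup.mem_bot, cm_apply, mul_inv_eq_one] at h4

/-- fixed points in `V/D` lift, elements of odd order -/
theorem lift (hV : ∀ v : V, v * v = 1) (ρ : X →* MulAut V) {y : X} (hy : Odd (orderOf y)) {D : Subgroup V}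
    (hD : ∀ w ∈ D, ρ y w ∈ D) {v : V} (hv : ρ y v * v⁻¹ ∈ D) : ∃ w, ρ y w = w ∧ w * v⁻¹ ∈ D := by
  have h1 : ∀ n : ℕ, ρ (y ^ n) v * v⁻¹ ∈ D := by
    intro n
    induction n with
    | zero => rw [pow_zero, map_one, MulAut.one_apply, mul_inv_cancel]; exact one_mem _
    | succ n ih =>
      have h2 : ρ (y ^ (n + 1)) v * v⁻¹ = ρ y (ρ (y ^ n) v * v⁻¹) * (ρ y v * v⁻¹) := by
        rw [pow_succ', map_mul, MulAut.mul_apply, map_mul (ρ y), map_inv (ρ y)]; group
      rw [h2]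
      exact mul_mem (hD _ ih) hv
  have h2 : ∀ n : ℕ, (∏ i ∈ Finset.range n, ρ (y ^ i) v) * (v ^ n)⁻¹ ∈ D := by
    intro n
    induction n with
    | zero => simp [one_mem]
    | succ n ih =>
      have h3 : (∏ i ∈ Finset.range (n + 1), ρ (y ^ i) v) * (v ^ (n + 1))⁻¹ =
          ((∏ i ∈ Finset.range n, ρ (y ^ i) v) * (v ^ n)⁻¹) * (ρ (y ^ n) v * v⁻¹) := by
        rw [Finset.prod_range_succ, pow_succ, mul_inv, mul_mul_mul_comm]
      rw [h3]
      exact mul_mem ih (h1 n)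
  refine ⟨∏ i ∈ Finset.range (orderOf y), ρ (y ^ i) v, ?_, ?_⟩
  · rw [map_prod]
    have h3 : ∀ i, ρ y (ρ (y ^ i) v) = ρ (y ^ (i + 1)) v := by
      intro i
      rw [← MulAut.mul_apply, ← map_mul, ← pow_succ']
    rw [Finset.prod_congr rfl (fun i _ => h3 i)]
    have h4 := Finset.prod_range_succ' (fun i => ρ (y ^ i) v) (orderOf y)
    have h5 := Finset.prod_range_succ (fun i => ρ (y ^ i) v) (orderOf y)
    rw [h5, pow_orderOf_eq_one, pow_zero] at h4
    exact (mul_right_cancel h4).symm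
  · have h3 := h2 (orderOf y)
    rwa [EmpC.pow_eq_of_odd hV hy] at h3

end Cfsg.Agent.OddCyclic.ClaimC.SixPP
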