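import Cfsg.Agent.OddCyclic.ClaimC.SixB
import Cfsg.Agent.OddCyclic.EmpC.LemN

/-!
# CLAIM C, (6.4): the torus
-/

set_option autoImplicit false
set_option linter.unusedSectionVars false
set_option linter.unusedSimpArgs false

namespace Cfsg.Agent.OddCyclic.ClaimC.SixT

open Matrix Cfsg.Agent.OddCyclic.T1Module Cfsg.Agent.OddCyclic.T1Sl2 Cfsg.Agent.OddCyclic.FFBasic
  Cfsg.Agent.OddCyclic.ClaimC.SixPP Cfsg.Agent.OddCyclic.FFRed Cfsg.Agent.OddCyclic.EmpC
  Cfsg.Agent.OddCyclic.ClaimC.SixB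
open Cfsg.Agent.OddCyclic.FFSl2 (index_le_of_le eq_of_index_le)

section general

variable {X : Type*} [Group X] {V : Type*} [CommGroup V]

/-- `|[V,y]| = |C_{[V,y]}(a)|²` for an involution `a` inverting `y` -/
theorem card_range_sq [Finite V] {ρ : X →* MulAut V} (hV : ∀ v : V, v * v = 1) {a y : X} (ha : a * a = 1)
    (hy : Odd (orderOf y)) (h : a * y * a⁻¹ = y⁻¹) :
    Nat.card (cm ρ y).range = Nat.card (fx ρ a ⊓ (cm ρ y).range : Subgroup V) ^ 2 := by
  set R := (cm ρ y).range with hR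
  have hst : ∀ v ∈ R, ρ a v ∈ R := fun v hv => apply_mem_range_of_inv ρ h hv
  have haa : ∀ v : V, ρ a (ρ a v) = v := by
    intro v
    rw [← MulAut.mul_apply, ← map_mul, ha, map_one]; rfl
  let f : R →* R :=
    { toFun := fun v => ⟨ρ a v * (v : V)⁻¹, mul_mem (hst v v.2) (inv_mem v.2)⟩
      map_one' := by apply Subtype.ext; simp
      map_mul' := fun v w => by
        apply Subtype.ext
        show ρ a (v * w : V) * (v * w : V)⁻¹ = (ρ a v * (v : V)⁻¹) * (ρ a w * (w : V)⁻¹)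
        rw [map_mul, mul_inv]
        exact mul_mul_mul_comm _ _ _ _ }
  have hf : ∀ v : R, ((f v : R) : V) = ρ a v * (v : V)⁻¹ := fun v => rfl
  have h1 : f.range ≤ f.ker := by
    rintro _ ⟨v, rfl⟩
    rw [MonoidHom.mem_ker]
    apply Subtype.ext
    have e : ρ a (ρ a v * (v : V)⁻¹) = (v : V) * (ρ a v)⁻¹ := by rw [map_mul, map_inv, haa]
    rw [hf, hf, e]
    show (v : V) * (ρ a v)⁻¹ * (ρ a v * (v : V)⁻¹)⁻¹ = 1
    rw [mul_inv, inv_inv, mul_comm (v : V), mul_mul_mul_comm, hV, one_mul, hV]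
  set C : Subgroup V := fx ρ a ⊓ R with hC
  set C' : Subgroup V := C.map (ρ y : V ≃* V).toMonoidHom with hC'
  have hC'R : C' ≤ R := by
    rintro _ ⟨v, hv, rfl⟩
    exact apply_mem_range ρ rfl hv.2
  have hcc : ∀ v ∈ C, v ∈ C' → v = 1 := by
    rintro v hv ⟨w, hw, hwv⟩
    have h2 : v ∈ fx ρ (y * a * y⁻¹) := by
      rw [fx_conj]; exact ⟨w, hw.1, hwv⟩
    apply eq_one_of_fix hV hy hv.2
    have h3 : y * a * y⁻¹ = y * y * a := by
      have h3 : a * y⁻¹ = y * a := by
        calc a * y⁻¹ = (a * y * a⁻¹)⁻¹ * a := by group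
          _ = y * a := by rw [h, inv_inv]
      rw [mul_assoc, h3, mul_assoc]
    rw [h3] at h2
    have h5 := fx_mul ρ h2 (fx_inv ρ hv.1)
    rw [mul_inv_cancel_right] at h5
    exact fx_of_sq ρ hy h5
  have hcard' : Nat.card C' = Nat.card C := Subgroup.card_map_of_injective (ρ y).injective
  have h2 : Nat.card C * Nat.card C' ≤ Nat.card R := by
    rw [← Nat.card_prod]
    apply Nat.card_le_card_of_injective (fun p : C × C' => (⟨p.1 * p.2, mul_mem p.1.2.2 (hC'R p.2.2)⟩ : R))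
    rintro ⟨⟨c, hc⟩, ⟨d, hd⟩⟩ ⟨⟨c', hc'⟩, ⟨d', hd'⟩⟩ he
    have he' : c * d = c' * d' := congrArg Subtype.val he
    have h6 : c'⁻¹ * c = d' * d⁻¹ := by
      rw [inv_mul_eq_iff_eq_mul, ← mul_assoc, ← he', mul_inv_cancel_right]
    have h7 := hcc _ (mul_mem (inv_mem hc') hc) (by rw [h6]; exact mul_mem hd' (inv_mem hd))
    have h8 : c = c' := by rw [inv_mul_eq_one] at h7; exact h7.symm
    have h9 : d = d' := by rw [h8] at he'; exact mul_left_cancel he'
    subst h8 h9; rfl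
  have hker : Nat.card f.ker = Nat.card C := by
    refine Nat.card_congr ⟨fun v => ⟨v.1.1, ?_, v.1.2⟩, fun v => ⟨⟨v.1, v.2.2⟩, ?_⟩, fun v => rfl, fun v => rfl⟩
    · have h6 : f v.1 = 1 := v.2
      have h7 := congrArg Subtype.val h6
      rw [hf] at h7
      exact mul_inv_eq_one.1 h7
    · show _ ∈ f.ker
      rw [MonoidHom.mem_ker]
      apply Subtype.ext
      rw [hf]
      show ρ a v.1 * v.1⁻¹ = 1
      rw [show ρ a v.1 = v.1 from v.2.1, mul_inv_cancel]
  have h3 : Nat.card R ≤ Nat.card C * Nat.card C := by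
    have h6 := f.ker.card_mul_index
    rw [Subgroup.index_ker, hker] at h6
    have h7 : Nat.card f.range ≤ Nat.card f.ker := Nat.card_le_card_of_injective _ (Subgroup.inclusion_injective h1)
    rw [hker] at h7
    rw [← h6]
    exact Nat.mul_le_mul_left _ h7
  rw [hcard'] at h2
  rw [sq]
  omega

end general

section torus

variable {F : Type*} [Field F] [Fintype F] [CharP F 2]

theorem dg_up (α : Fˣ) (t : F) : dg α * up t * (dg α)⁻¹ = up ((α : F) * α * t) := by
  apply ext2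
  · simp only [mul00, mul01, mul10, mul11, inv00, inv01, inv10, inv11, up00, up01, up10, up11, dg00, dg01, dg10, dg11]
    simp
  · simp only [mul00, mul01, mul10, mul11, inv00, inv01, inv10, inv11, up00, up01, up10, up11, dg00, dg01, dg10, dg11]
    ring
  · simp only [mul00, mul01, mul10, mul11, inv00, inv01, inv10, inv11, up00, up01, up10, up11, dg00, dg01, dg10, dg11]
    simp
  · simp only [mul00, mul01, mul10, mul11, inv00, inv01, inv10, inv11, up00, up01, up10, up11, dg00, dg01, dg10, dg11]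
    simp

theorem dg_norm (α : Fˣ) : ∀ a ∈ T1Sl2.SU F, dg α * a * (dg α)⁻¹ ∈ T1Sl2.SU F := by
  intro a ha
  obtain ⟨t, rfl⟩ := mem_SU_iff.1 ha
  rw [dg_up]
  exact mem_SU_iff.2 ⟨_, rfl⟩

theorem dg_inv (α : Fˣ) : (dg α)⁻¹ = dg α⁻¹ := by
  rw [← dgHom_apply, ← dgHom_apply, map_inv]

theorem ww_dg (α : Fˣ) : ww F * dg α * (ww F)⁻¹ = (dg α)⁻¹ := by
  apply ext2
  · simp only [mul00, mul01, mul10, mul11, inv00, inv01, inv10, inv11, ww00, ww01, ww10, ww11, dg00, dg01, dg10, dg11]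
    simp [CharTwo.neg_eq]
  · simp only [mul00, mul01, mul10, mul11, inv00, inv01, inv10, inv11, ww00, ww01, ww10, ww11, dg00, dg01, dg10, dg11]
    simp
  · simp only [mul00, mul01, mul10, mul11, inv00, inv01, inv10, inv11, ww00, ww01, ww10, ww11, dg00, dg01, dg10, dg11]
    simp
  · simp only [mul00, mul01, mul10, mul11, inv00, inv01, inv10, inv11, ww00, ww01, ww10, ww11, dg00, dg01, dg10, dg11]
    simp [CharTwo.neg_eq]

theorem ww_up (t : F) : ww F * up t * ww F = lo t := by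
  apply ext2
  · simp only [mul00, mul01, mul10, mul11, up00, up01, up10, up11, ww00, ww01, ww10, ww11, lo00]
    simp
  · simp only [mul00, mul01, mul10, mul11, up00, up01, up10, up11, ww00, ww01, ww10, ww11, lo01]
    simp
  · simp only [mul00, mul01, mul10, mul11, up00, up01, up10, up11, ww00, ww01, ww10, ww11, lo10]
    simp
  · simp only [mul00, mul01, mul10, mul11, up00, up01, up10, up11, ww00, ww01, ww10, ww11, lo11]
    simp

theorem eq_one_of_sq {α : Fˣ} (h : (α : F) * α = 1) : α = 1 := by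
  have h2 : (2 : F) = 0 := CharTwo.two_eq_zero
  have h3 : ((α : F) - 1) * (α - 1) = 0 := by linear_combination h + (1 - (α : F)) * h2
  have h4 : (α : F) = 1 := by
    rcases mul_eq_zero.1 h3 with h | h <;> linear_combination h
  exact Units.ext h4

/-- the elements of `U` have no fixed points under `α ≠ 1` -/
theorem eq_one_of_comm {α : Fˣ} (hα : α ≠ 1) {a : SpecialLinearGroup (Fin 2) F} (ha : a ∈ T1Sl2.SU F)
    (h : dg α * a * (dg α)⁻¹ = a) : a = 1 := by
  obtain ⟨t, rfl⟩ := mem_SU_iff.1 ha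
  rw [dg_up] at h
  have h1 : (up ((α : F) * α * t) : SpecialLinearGroup (Fin 2) F) 0 1 = (up t : SpecialLinearGroup (Fin 2) F) 0 1 := by
    rw [h]
  rw [up01, up01] at h1
  have h2 : ((α : F) * α - 1) * t = 0 := by linear_combination h1
  rcases mul_eq_zero.1 h2 with h3 | h3
  · exact absurd (eq_one_of_sq (sub_eq_zero.1 h3)) hα
  · rw [h3, up_zero]

theorem card_units : Nat.card Fˣ = Fintype.card F - 1 := by
  rw [Nat.card_units, Nat.card_eq_fintype_card]

theorem odd_units (α : Fˣ) : Odd (orderOf α) := by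
  obtain ⟨n, hn, hF⟩ := card_pow F
  have h1 : orderOf α ∣ 2 ^ n - 1 := by
    rw [← hF, ← card_units]; exact orderOf_dvd_natCard α
  have h2 : Odd (2 ^ n - 1) := by
    have h3 : Even (2 ^ n) := (Nat.even_pow' hn.ne').2 even_two
    have h4 : 0 < 2 ^ n := by positivity
    rcases h3 with ⟨r, hr⟩
    exact ⟨r - 1, by omega⟩
  exact Odd.of_dvd_nat h2 h1

theorem orderOf_dg (α : Fˣ) : orderOf (dg α) = orderOf α := orderOf_injective dgHom dgHom_injective α

/-- an element of order `n` in a cyclic group -/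
theorem exists_unit {n : ℕ} (h : n ∣ Fintype.card F - 1) : ∃ θ : Fˣ, orderOf θ = n := by
  obtain ⟨g, hg⟩ := IsCyclic.exists_generator (α := Fˣ)
  have hgo : orderOf g = Fintype.card F - 1 := by
    rw [← card_units]; exact orderOf_eq_card_of_forall_mem_zpowers hg
  obtain ⟨m, hm⟩ := h
  have h1 := Fintype.one_lt_card (α := F)
  have hm0 : m ≠ 0 := by
    rintro rfl
    omega
  refine ⟨g ^ m, ?_⟩
  rw [orderOf_pow_of_dvd hm0 (by rw [hgo, hm]; exact Dvd.intro_left _ rfl), hgo, hm,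
    Nat.mul_div_cancel _ (Nat.pos_of_ne_zero hm0)]

/-- a subgroup of order `n` contains all elements with `x^n = 1` -/
theorem mem_of_pow {N : Subgroup Fˣ} {n : ℕ} (hN : Nat.card N = n) (hn : n ≠ 0) {x : Fˣ} (hx : x ^ n = 1) : x ∈ N := by
  classical
  have hfin : Finite {x : Fˣ // x ^ n = 1} := inferInstance
  let _ : Fintype {x : Fˣ // x ^ n = 1} := Fintype.ofFinite _
  have h1 : Nat.card {x : Fˣ // x ^ n = 1} ≤ n := by
    have h2 := IsCyclic.card_pow_eq_one_le (α := Fˣ) (n := n) (Nat.pos_of_ne_zero hn)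
    have h3 : Nat.card {x : Fˣ // x ^ n = 1} = (Finset.univ.filter fun x : Fˣ => x ^ n = 1).card := by
      rw [Nat.card_eq_fintype_card, Fintype.card_subtype]
    rw [h3]
    exact h2
  have h2 : ∀ x : N, (x : Fˣ) ^ n = 1 := by
    intro x
    rw [← hN]
    have := pow_card_eq_one' (x := x)
    exact congrArg Subtype.val this
  let φ : N → {x : Fˣ // x ^ n = 1} := fun x => ⟨x, h2 x⟩
  have hφ : Function.Injective φ := fun x y h => Subtype.ext (congrArg (fun z : {x : Fˣ // x ^ n = 1} => (z : Fˣ)) h)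
  have h3 := hφ.bijective_of_nat_card_le (by rw [hN]; exact h1)
  obtain ⟨y, hy⟩ := h3.2 ⟨x, hx⟩
  have h4 : (y : Fˣ) = x := congrArg Subtype.val hy
  rw [← h4]
  exact y.2

end torus

section six

variable {F : Type*} [Field F] [Fintype F] [CharP F 2] {V : Type*} [CommGroup V]

/-- the action of the torus -/
def tau (ρ : SpecialLinearGroup (Fin 2) F →* MulAut V) : Fˣ →* MulAut V := ρ.comp dgHom

theorem tau_apply (ρ : SpecialLinearGroup (Fin 2) F →* MulAut V) (α : Fˣ) (v : V) : tau ρ α v = ρ (dg α) v := rfl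

variable [Finite V] {ρ : SpecialLinearGroup (Fin 2) F →* MulAut V} {R D : Subgroup V} {c d : ℕ}

theorem tau_D (s : Six ρ R D c d) : Inv (tau ρ) D := fun α _ hv => s.norm_D (dg_norm α) hv

theorem tau_R (s : Six ρ R D c d) : Inv (tau ρ) R := fun α _ hv => s.norm_R (dg_norm α) hv

/-- `D/R ≅ U` for the elements of the torus with fixed points outside `D` -/
theorem fpf_DR (s : Six ρ R D c d) {α : Fˣ} (hα : α ≠ 1) {v : V} (hv : v ∉ D) (hf : tau ρ α v * v⁻¹ ∈ D) :
    ∀ x ∈ D, tau ρ α x * x⁻¹ ∈ R → x ∈ R := by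
  obtain ⟨w, hw, hwv⟩ := lift s.sq (tau ρ) (odd_units α) (fun x hx => tau_D s α x hx) hf
  have hwD : w ∉ D := by
    intro h1
    apply hv
    have h2 : v = (w * v⁻¹)⁻¹ * w := by group
    rw [h2]
    exact mul_mem (inv_mem hwv) h1
  intro x hx h1
  obtain ⟨a, ha, r, hr, rfl⟩ := s.cfg.surj w hwD x hx
  have hαr : tau ρ α r ∈ R := tau_R s α r hr
  have e1 : tau ρ α (ρ a w * w⁻¹ * r) = ρ (dg α * a * (dg α)⁻¹) w * w⁻¹ * tau ρ α r := by
    rw [map_mul, map_mul, map_inv, hw]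
    congr 2
    show ρ (dg α) (ρ a w) = _
    have h2 : ρ (dg α) w = w := hw
    rw [apply_eq, h2]
  set b := dg α * a * (dg α)⁻¹ with hb
  have hbU : b ∈ T1Sl2.SU F := dg_norm α a ha
  rw [e1] at h1
  have h2 : (ρ b w * w⁻¹) * (ρ a w * w⁻¹)⁻¹ ∈ R := by
    have h3 := mul_mem h1 (mul_mem hr (inv_mem hαr))
    have h4 : ρ b w * w⁻¹ * tau ρ α r * (ρ a w * w⁻¹ * r)⁻¹ * (r * (tau ρ α r)⁻¹) =
        (ρ b w * w⁻¹) * (ρ a w * w⁻¹)⁻¹ := by
      generalize ρ b w * w⁻¹ = x1
      generalize ρ a w * w⁻¹ = x2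
      generalize tau ρ α r = x3
      rw [mul_inv]
      calc x1 * x3 * (x2⁻¹ * r⁻¹) * (r * x3⁻¹) = x1 * x2⁻¹ * (x3 * x3⁻¹) * (r⁻¹ * r) := by
            simp only [mul_assoc, mul_comm, mul_left_comm]
        _ = x1 * x2⁻¹ := by rw [mul_inv_cancel, inv_mul_cancel, mul_one, mul_one]
    rwa [h4] at h3
  have haa : (ρ a w * w⁻¹)⁻¹ = ρ a w * w⁻¹ := EmpC.inv_eq s.sq _
  rw [haa] at h2
  have h3 := s.cfg.comm_mul w hbU ha
  have h4 : ρ (b * a) w * w⁻¹ ∈ R := by
    have := mul_mem h3 h2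
    rwa [inv_mul_cancel_right] at this
  have h5 := s.cfg.inj w hwD _ (mul_mem hbU ha) h4
  have h6 : a⁻¹ = a := inv_eq_of_mul_eq_one_left (T1Sl2.SU_sq ha)
  have h7 : b = a := by rw [mul_eq_one_iff_eq_inv.1 h5, h6]
  have h8 := eq_one_of_comm hα ha h7
  rw [h8, map_one, MulAut.one_apply, mul_inv_cancel, one_mul]
  exact hr

/-- `D D^w = V` -/
theorem sup_ww (s : Six ρ R D c d) : D ⊔ D.map (ρ (ww F) : V →* V) = ⊤ := by
  set S := D ⊔ D.map (ρ (ww F) : V →* V) with hS
  have hww : ∀ v, ρ (ww F) (ρ (ww F) v) = v := by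
    intro v
    rw [← MulAut.mul_apply, ← map_mul, ww_sq, map_one]; rfl
  have hinv : Inv ρ S := by
    let N : Subgroup (SpecialLinearGroup (Fin 2) F) := stS ρ S
    have h1 : ∀ g : SpecialLinearGroup (Fin 2) F, (∀ v, ρ g v * v⁻¹ ∈ S) → g ∈ N := by
      intro g hg u
      constructor
      · intro h2
        have h3 : u = (ρ g u * u⁻¹)⁻¹ * ρ g u := by group
        rw [h3]
        exact mul_mem (inv_mem (hg u)) h2
      · intro h2
        have h3 : ρ g u = (ρ g u * u⁻¹) * u := by group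
        rw [h3]
        exact mul_mem (hg u) h2
    have h2 : N = ⊤ := by
      apply closure_top
      · intro t
        apply h1
        intro v
        exact Subgroup.mem_sup_left (s.cfg.comm_mem v (mem_SU_iff.2 ⟨t, rfl⟩))
      · intro t
        apply h1
        intro v
        apply Subgroup.mem_sup_right
        refine ⟨ρ (up t) (ρ (ww F) v) * (ρ (ww F) v)⁻¹, s.cfg.comm_mem _ (mem_SU_iff.2 ⟨t, rfl⟩), ?_⟩
        show ρ (ww F) (ρ (up t) (ρ (ww F) v) * (ρ (ww F) v)⁻¹) = _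
        rw [map_mul (ρ (ww F)), map_inv (ρ (ww F)), hww, ← ww_up, map_mul ρ, map_mul ρ, MulAut.mul_apply,
          MulAut.mul_apply]
    intro g w hw
    have h3 : g ∈ N := by rw [h2]; trivial
    exact (h3 w).2 hw
  rcases s.irr S hinv with h1 | h1
  · exfalso
    obtain ⟨w, hw, a, ha, hne⟩ := s.nq
    have h2 : w ∈ S := Subgroup.mem_sup_left hw
    rw [h1, Subgroup.mem_bot] at h2
    apply hne
    rw [h2, map_one]
  · exact h1

theorem card_inf (s : Six ρ R D c d) :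
    Nat.card (D ⊓ D.map (ρ (ww F) : V →* V) : Subgroup V) * Nat.card V = Nat.card D ^ 2 := by
  have h1 : Nat.card (D.map (ρ (ww F) : V →* V)) = Nat.card D :=
    Subgroup.card_map_of_injective (K := D) (f := (ρ (ww F) : V →* V)) (ρ (ww F)).injective
  have h2 : D.relIndex (D.map (ρ (ww F) : V →* V)) = D.index := by
    rw [← Subgroup.relIndex_top_right (H := D), ← sup_ww s, sup_comm, Subgroup.relIndex_sup_right]
  have h3 : Nat.card (D ⊓ D.map (ρ (ww F) : V →* V) : Subgroup V) * D.index = Nat.card D := by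
    rw [← h2, ← h1, ← Subgroup.inf_relIndex_right]
    exact card_mul_relIndex inf_le_right
  have h4 := D.card_mul_index
  rw [← h4, pow_two]
  calc _ = Nat.card (D ⊓ D.map (ρ (ww F) : V →* V) : Subgroup V) * D.index * Nat.card D := by ring
    _ = _ := by rw [h3]

/-- `α` has no fixed points on `V/D` : `C_V(α) ≤ D ∩ D^w` -/
theorem fx_le_inf {α : Fˣ} (hα : ∀ v, tau ρ α v * v⁻¹ ∈ D → v ∈ D) :
    fx (tau ρ) α ≤ D ⊓ D.map (ρ (ww F) : V →* V) := by
  have h1 : ∀ v, tau ρ α v = v → v ∈ D := fun v hv => hα v (by rw [hv, mul_inv_cancel]; exact one_mem D)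
  intro v hv
  refine ⟨h1 v hv, ρ (ww F) v, h1 _ ?_, ?_⟩
  · have h2 : v ∈ fx ρ (dg α)⁻¹ := fx_inv ρ hv
    rw [mem_fx] at h2
    have h3 : ww F * (dg α)⁻¹ * (ww F)⁻¹ = dg α := by
      calc ww F * (dg α)⁻¹ * (ww F)⁻¹ = (ww F * dg α * (ww F)⁻¹)⁻¹ := by group
        _ = dg α := by rw [ww_dg, inv_inv]
    have h4 : dg α * ww F = ww F * (dg α)⁻¹ := by
      calc dg α * ww F = ww F * (dg α)⁻¹ * (ww F)⁻¹ * ww F := by rw [h3]
        _ = _ := by group
    show ρ (dg α) (ρ (ww F) v) = ρ (ww F) v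
    rw [← MulAut.mul_apply, ← map_mul, h4, map_mul, MulAut.mul_apply, h2]
  · show ρ (ww F) (ρ (ww F) v) = v
    rw [← MulAut.mul_apply, ← map_mul, ww_sq, map_one]; rfl

end six

end Cfsg.Agent.OddCyclic.ClaimC.SixT
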