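import Cfsg.Agent.OddCyclic.ClaimC.SixT

/-!
# CLAIM C, (6.4): counting, `q = (2^d)²`
-/

set_option autoImplicit false
set_option linter.unusedSectionVars false
set_option linter.unusedSimpArgs false

namespace Cfsg.Agent.OddCyclic.ClaimC.SixU

open Matrix Cfsg.Agent.OddCyclic.T1Module Cfsg.Agent.OddCyclic.T1Sl2 Cfsg.Agent.OddCyclic.FFBasic
  Cfsg.Agent.OddCyclic.ClaimC.SixPP Cfsg.Agent.OddCyclic.FFRed Cfsg.Agent.OddCyclic.EmpC
  Cfsg.Agent.OddCyclic.ClaimC.SixB Cfsg.Agent.OddCyclic.ClaimC.SixT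
open Cfsg.Agent.OddCyclic.FFSl2 (index_le_of_le eq_of_index_le)

variable {F : Type*} [Field F] [Fintype F] [CharP F 2] {V : Type*} [CommGroup V]

/-- `σ ≠ 1` is trivial on `R` and `V/D`, and `[V, σ]` is irreducible for the torus -/
structure Sig (ρ : SpecialLinearGroup (Fin 2) F →* MulAut V) (R D : Subgroup V) (σ : Fˣ) : Prop where
  ne : σ ≠ 1
  onR : ∀ r ∈ R, tau ρ σ r = r
  onD : ∀ v, tau ρ σ v * v⁻¹ ∈ D
  card : Nat.card (cm (tau ρ) σ).range = Fintype.card F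
  irr : ∀ W ≤ (cm (tau ρ) σ).range, (∀ α, ∀ w ∈ W, tau ρ α w ∈ W) → W ≠ ⊥ → W = (cm (tau ρ) σ).range

variable [Finite V] {ρ : SpecialLinearGroup (Fin 2) F →* MulAut V} {R D : Subgroup V} {c d : ℕ}

/-- the decomposition `D = [V,σ] × R` -/
theorem decomp (s : Six ρ R D c d) {σ : Fˣ} (hσ : σ ≠ 1) (h2 : ∀ v, tau ρ σ v * v⁻¹ ∈ D) :
    (cm (tau ρ) σ).range ≤ D ∧ ∀ x ∈ D, ∃ u ∈ (cm (tau ρ) σ).range, ∃ r ∈ R, u * r = x := by
  have hle : (cm (tau ρ) σ).range ≤ D := by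
    rintro _ ⟨v, rfl⟩
    exact h2 v
  refine ⟨hle, ?_⟩
  intro x hx
  obtain ⟨v, hv⟩ := s.cfg.exists_notMem
  have hfp := fpf_DR s hσ hv (h2 v)
  have h3 : x ∈ (cm (tau ρ) σ).range ⊔ fx (tau ρ) σ := by
    rw [range_sup_fx s.sq (odd_units σ)]; trivial
  obtain ⟨u, hu, w, hw, rfl⟩ := Subgroup.mem_sup.1 h3
  refine ⟨u, hu, w, ?_, rfl⟩
  apply hfp w
  · have h4 : w = u⁻¹ * (u * w) := by group
    rw [h4]
    exact mul_mem (inv_mem (hle hu)) hx
  · rw [show tau ρ σ w = w from hw, mul_inv_cancel]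
    exact one_mem R

theorem card_range (s : Six ρ R D c d) {σ : Fˣ} (hσ : σ ≠ 1) (h1 : ∀ r ∈ R, tau ρ σ r = r)
    (h2 : ∀ v, tau ρ σ v * v⁻¹ ∈ D) : Nat.card (cm (tau ρ) σ).range = Fintype.card F := by
  obtain ⟨hle, hdec⟩ := decomp s hσ h2
  set V' := (cm (tau ρ) σ).range with hV'
  have h3 : Nat.card (V' × R) = Nat.card D := by
    apply Nat.card_congr
    refine Equiv.ofBijective (fun p : V' × R => (⟨p.1 * p.2, mul_mem (hle p.1.2) (s.cfg.le p.2.2)⟩ : D)) ⟨?_, ?_⟩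
    · rintro ⟨⟨u, hu⟩, ⟨r, hr⟩⟩ ⟨⟨u', hu'⟩, ⟨r', hr'⟩⟩ h
      have h4 : u * r = u' * r' := congrArg Subtype.val h
      have h5 : u'⁻¹ * u = r' * r⁻¹ := by
        rw [inv_mul_eq_iff_eq_mul, ← mul_assoc, ← h4, mul_inv_cancel_right]
      have h6 : u'⁻¹ * u = 1 := by
        apply eq_one_of_fix s.sq (odd_units σ) (mul_mem (inv_mem hu') hu)
        rw [h5]
        exact h1 _ (mul_mem hr' (inv_mem hr))
      have h7 : u = u' := (inv_mul_eq_one.1 h6).symm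
      subst h7
      have h8 : r = r' := mul_left_cancel h4
      subst h8
      rfl
    · rintro ⟨x, hx⟩
      obtain ⟨u, hu, r, hr, rfl⟩ := hdec x hx
      exact ⟨(⟨u, hu⟩, ⟨r, hr⟩), rfl⟩
  rw [Nat.card_prod, s.cfg.card_D s.sq, s.cfg.card, ← s.cardF] at h3
  exact Nat.eq_of_mul_eq_mul_right Nat.card_pos h3

theorem exists_sig (s : Six ρ R D c d) : ∃ σ : Fˣ, Sig ρ R D σ := by
  obtain ⟨f, hf, hF⟩ := card_pow F
  have h4 := s.four
  have hf2 : 2 ≤ f := by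
    by_contra hcon
    have : f = 1 := by omega
    rw [hF, this] at h4
    norm_num at h4
  obtain ⟨l, k, hp⟩ := exists_pp hf2
  obtain ⟨θ, hθ⟩ := exists_unit (F := F) (n := l ^ k) (by rw [hF]; exact hp.dvd)
  set σ := θ ^ (l ^ (k - 1)) with hσ
  have hσo : orderOf σ = l := orderOf_s hp.prime hp.pos hθ
  have hσ1 : σ ≠ 1 := by
    intro h
    rw [h, orderOf_one] at hσo
    exact hp.prime.one_lt.ne hσo
  have hd := s.cfg.pos
  have h2d : 2 ^ 1 ≤ 2 ^ d := Nat.pow_le_pow_right (by norm_num) hd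
  have hR : Nat.card R < 2 ^ f := by
    have h1 := s.card_R
    rw [hF] at h1
    have h2 : 0 < Nat.card R := Nat.card_pos
    have h3 : Nat.card R * 2 ≤ Nat.card R * 2 ^ d := Nat.mul_le_mul_left _ (by omega)
    omega
  have h1 := trivial_of_lt s.sq (tau ρ) hp hθ (W := R) (fun w hw => tau_R s θ w hw) hR
  have h2 : ∀ v, tau ρ σ v * v⁻¹ ∈ D := by
    have h3 := trivial_of_lt (V := V ⧸ D) (quo_sq s.sq) (quo (tau ρ) D (tau_D s)) hp hθ (W := ⊤)
      (fun _ _ => trivial) (by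
        rw [Subgroup.card_top]
        have : Nat.card (V ⧸ D) = 2 ^ d := s.cfg.index
        rw [this, ← hF]
        exact s.d_lt)
    intro v
    have h5 := h3 (v : V ⧸ D) trivial
    rw [quo_apply, QuotientGroup.eq] at h5
    have h6 := inv_mem h5
    rw [_root_.mul_inv_rev, inv_inv, mul_comm] at h6
    exact h6
  have hcard := card_range s hσ1 h1 h2
  refine ⟨σ, hσ1, h1, h2, hcard, ?_⟩
  intro W hW hst hne
  apply Subgroup.eq_of_le_of_card_ge hW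
  rw [hcard, hF]
  exact card_ge s.sq (tau ρ) hp hθ (fun w hw => hst θ w hw)
    (fun w hw hf => eq_one_of_fix s.sq (odd_units σ) (hW hw) hf) hne

/-- an element fixing a nontrivial vector of `[V,σ]` centralises `[V,σ]` -/
theorem fix_all {σ : Fˣ} (hσ : Sig ρ R D σ) {α : Fˣ} {v : V} (hv : v ∈ (cm (tau ρ) σ).range)
    (hv1 : v ≠ 1) (h : tau ρ α v = v) : ∀ u ∈ (cm (tau ρ) σ).range, tau ρ α u = u := by
  have h1 := hσ.irr (fx (tau ρ) α ⊓ (cm (tau ρ) σ).range) inf_le_right ?_ ?_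
  · intro u hu
    rw [← h1] at hu
    exact hu.1
  · rintro β w ⟨hw, hw'⟩
    refine ⟨?_, apply_mem_range (tau ρ) (mul_comm _ _) hw'⟩
    show tau ρ α (tau ρ β w) = tau ρ β w
    rw [← MulAut.mul_apply, ← map_mul, mul_comm α β, map_mul, MulAut.mul_apply, show tau ρ α w = w from hw]
  · intro h2
    apply hv1
    have h3 : v ∈ fx (tau ρ) α ⊓ (cm (tau ρ) σ).range := ⟨h, hv⟩
    rwa [h2, Subgroup.mem_bot] at h3

/-- the kernel of the torus on `[V,σ]` -/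
def ker (ρ : SpecialLinearGroup (Fin 2) F →* MulAut V) (σ : Fˣ) : Subgroup Fˣ where
  carrier := {α | ∀ u ∈ (cm (tau ρ) σ).range, tau ρ α u = u}
  mul_mem' := fun {a b} ha hb u hu => by rw [map_mul, MulAut.mul_apply, hb u hu, ha u hu]
  one_mem' := fun u _ => by rw [map_one]; rfl
  inv_mem' := fun {a} ha u hu => fx_inv (ρ := tau ρ) (v := u) (ha u hu)

theorem mem_ker {σ α : Fˣ} : α ∈ ker ρ σ ↔ ∀ u ∈ (cm (tau ρ) σ).range, tau ρ α u = u := Iff.rfl

/-- `q₁² = q`, `|F^× : N| ≤ q₁ + 1` -/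
theorem index_ker_le (s : Six ρ R D c d) {σ : Fˣ} (hσ : Sig ρ R D σ) :
    ∃ q₁ : ℕ, 2 ≤ q₁ ∧ q₁ ^ 2 = Fintype.card F ∧ (ker ρ σ).index ≤ q₁ + 1 := by
  set V' := (cm (tau ρ) σ).range with hV'
  have hdg : orderOf (dg σ) = orderOf σ := orderOf_dg σ
  have hV'' : V' = (cm ρ (dg σ)).range := rfl
  have h1 := card_range_sq s.sq (ρ := ρ) (a := ww F) (y := dg σ) (ww_sq (F := F)) (by rw [hdg]; exact odd_units σ)
    (ww_dg σ)
  rw [← hV'', hσ.card] at h1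
  set C : Subgroup V := fx ρ (ww F) ⊓ V' with hC
  have h4 := s.four
  have hq2 : 2 ≤ Nat.card C := by
    by_contra hcon
    have h2 : Nat.card C ≤ 1 := by omega
    have h3 : Nat.card C ^ 2 ≤ 1 ^ 2 := Nat.pow_le_pow_left h2 2
    omega
  refine ⟨Nat.card C, hq2, h1.symm, ?_⟩
  let S := {v : V // v ∈ C ∧ v ≠ 1}
  let S' := {v : V // v ∈ V' ∧ v ≠ 1}
  have hcardS : ∀ W : Subgroup V, Nat.card {v : V // v ∈ W ∧ v ≠ 1} + 1 = Nat.card W := by
    intro W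
    have h5 : Nat.card {v : V // v ∈ W ∧ v ≠ 1} = ({(1 : W)}ᶜ : Set W).ncard := by
      rw [← Nat.card_coe_set_eq]
      apply Nat.card_congr
      refine ⟨fun v => ⟨⟨v.1, v.2.1⟩, fun h => v.2.2 (congrArg Subtype.val h)⟩,
        fun v => ⟨v.1.1, v.1.2, fun h => v.2 (Subtype.ext h)⟩, fun v => rfl, fun v => rfl⟩
    rw [h5, Set.ncard_compl, Set.ncard_singleton]
    have : 0 < Nat.card W := Nat.card_pos
    omega
  have hinj : Nat.card ((Fˣ ⧸ ker ρ σ) × S) ≤ Nat.card S' := by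
    let φ : (Fˣ ⧸ ker ρ σ) × S → S' := fun p => ⟨tau ρ p.1.out p.2.1,
      apply_mem_range (tau ρ) (mul_comm _ _) p.2.2.1.2, fun h => p.2.2.2 (by
        apply (tau ρ p.1.out).injective
        rw [h, map_one])⟩
    apply Nat.card_le_card_of_injective φ
    rintro ⟨x, ⟨v, hv, hv1⟩⟩ ⟨y, ⟨v', hv', hv1'⟩⟩ h
    have h5 : tau ρ x.out v = tau ρ y.out v' := congrArg (fun z : S' => (z : V)) h
    set z := (y.out)⁻¹ * x.out with hz
    have h6 : tau ρ z v = v' := by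
      rw [hz, map_mul, MulAut.mul_apply, h5, ← MulAut.mul_apply, ← map_mul, inv_mul_cancel, map_one]; rfl
    -- `w` fixes `z v` and `v`
    have h7 : tau ρ z⁻¹ v = v' := by
      have h8 : ρ (ww F) v = v := hv.1
      have h9 : ρ (ww F) v' = v' := hv'.1
      have h10 : ρ (ww F) (ρ (dg z) v) = ρ (dg z)⁻¹ (ρ (ww F) v) := by
        rw [apply_eq, ww_dg]
      rw [tau_apply] at h6
      rw [h6, h8, h9] at h10
      rw [tau_apply, ← dg_inv]
      exact h10.symm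
    have h8 : v ∈ fx (tau ρ) (z * z) := by
      rw [mem_fx, map_mul, MulAut.mul_apply, h6, ← h7, ← MulAut.mul_apply, ← map_mul, mul_inv_cancel, map_one]; rfl
    have h9 : tau ρ z v = v := fx_of_sq (tau ρ) (odd_units z) h8
    have h10 : v = v' := by rw [← h6, h9]
    subst h10
    have h11 : z ∈ ker ρ σ := fix_all hσ hv.2 hv1 h9
    have h12 : x = y := by
      rw [← x.out_eq', ← y.out_eq']
      exact (QuotientGroup.eq.2 h11).symm
    subst h12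
    rfl
  rw [Nat.card_prod] at hinj
  have e1 := hcardS C
  have e2 := hcardS V'
  rw [hσ.card, h1] at e2
  change (ker ρ σ).index * Nat.card S ≤ Nat.card S' at hinj
  change Nat.card S + 1 = Nat.card C at e1
  change Nat.card S' + 1 = Nat.card C ^ 2 at e2
  obtain ⟨m, hm⟩ : ∃ m, Nat.card S = m := ⟨_, rfl⟩
  rw [hm] at e1 hinj
  rw [← e1] at e2 ⊢
  have h5 : Nat.card S' = m * (m + 2) := by
    have : (m + 1) ^ 2 = m * (m + 2) + 1 := by ring
    omega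
  rw [h5] at hinj
  have h6 : 0 < m := by omega
  have h7 : (ker ρ σ).index * m ≤ (m + 2) * m := by rw [mul_comm (m + 2)]; exact hinj
  exact Nat.le_of_mul_le_mul_right h7 h6

/-- the kernel acts without fixed points on `V/D` -/
theorem semireg (s : Six ρ R D c d) {σ : Fˣ} (hσ : Sig ρ R D σ) {α : Fˣ} (hα : α ∈ ker ρ σ) (hα1 : α ≠ 1) :
    ∀ v, tau ρ α v * v⁻¹ ∈ D → v ∈ D := by
  intro v h
  by_contra hv
  have h1 := fpf_DR s hα1 hv h
  have h2 := (decomp s hσ.ne hσ.onD).1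
  have h3 : (cm (tau ρ) σ).range = ⊥ := by
    rw [Subgroup.eq_bot_iff_forall]
    intro u hu
    apply eq_one_of_fix s.sq (odd_units σ) hu
    apply hσ.onR
    apply h1 u (h2 hu)
    rw [hα u hu, mul_inv_cancel]
    exact one_mem R
  have h4 := hσ.card
  rw [h3, Subgroup.card_bot] at h4
  have := s.four
  omega

theorem card_ker_le (s : Six ρ R D c d) {σ : Fˣ} (hσ : Sig ρ R D σ) : Nat.card (ker ρ σ) ≤ 2 ^ d - 1 := by
  have h1 := card_dvd_sub_one (K := V ⧸ D) (D := ker ρ σ) ((quo (tau ρ) D (tau_D s)).comp (ker ρ σ).subtype) ⊤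
    (fun _ _ _ => trivial) ?_
  · rw [Subgroup.card_top, show Nat.card (V ⧸ D) = 2 ^ d from s.cfg.index] at h1
    apply Nat.le_of_dvd _ h1
    have h2 : 2 ^ 1 ≤ 2 ^ d := Nat.pow_le_pow_right (by norm_num) s.cfg.pos
    omega
  · rintro ⟨α, hα⟩ w - hw1 hw
    obtain ⟨v, rfl⟩ := QuotientGroup.mk_surjective w
    by_contra hne
    have hα1 : α ≠ 1 := fun h => hne (Subtype.ext h)
    apply hw1
    rw [QuotientGroup.eq_one_iff]
    apply semireg s hσ hα hα1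
    have h5 : quo (tau ρ) D (tau_D s) α (v : V ⧸ D) = (v : V ⧸ D) := hw
    rw [quo_apply, QuotientGroup.eq] at h5
    have h6 := inv_mem h5
    rw [_root_.mul_inv_rev, inv_inv, mul_comm] at h6
    exact h6

theorem card_CR_le (s : Six ρ R D c d) {σ : Fˣ} (hσ : Sig ρ R D σ) {α : Fˣ} (hα : α ∈ ker ρ σ) (hα1 : α ≠ 1) :
    Nat.card (fx (tau ρ) α ⊓ R : Subgroup V) * (2 ^ d) ^ 2 ≤ Fintype.card F := by
  have h1 := fx_le_inf (semireg s hσ hα hα1)
  have h2 := Subgroup.card_le_of_le h1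
  set V' := (cm (tau ρ) σ).range with hV'
  have h3 : Nat.card V' * Nat.card (fx (tau ρ) α ⊓ R : Subgroup V) ≤ Nat.card (fx (tau ρ) α) := by
    rw [← Nat.card_prod]
    apply Nat.card_le_card_of_injective (fun p : V' × (fx (tau ρ) α ⊓ R : Subgroup V) =>
      (⟨p.1 * p.2, mul_mem (show (p.1 : V) ∈ fx (tau ρ) α from hα p.1 p.1.2) p.2.2.1⟩ : fx (tau ρ) α))
    rintro ⟨⟨u, hu⟩, ⟨r, hr⟩⟩ ⟨⟨u', hu'⟩, ⟨r', hr'⟩⟩ h
    have h4 : u * r = u' * r' := congrArg Subtype.val h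
    have h5 : u'⁻¹ * u = r' * r⁻¹ := by
      rw [inv_mul_eq_iff_eq_mul, ← mul_assoc, ← h4, mul_inv_cancel_right]
    have h6 : u'⁻¹ * u = 1 := by
      apply eq_one_of_fix s.sq (odd_units σ) (mul_mem (inv_mem hu') hu)
      rw [h5]
      exact hσ.onR _ (mul_mem hr'.2 (inv_mem hr.2))
    have h7 : u = u' := (inv_mul_eq_one.1 h6).symm
    subst h7
    have h8 : r = r' := mul_left_cancel h4
    subst h8
    rfl
  rw [hσ.card] at h3
  have h4 := card_inf s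
  have h5 := s.card_D
  have h6 := s.card_V
  set X := Nat.card (D ⊓ D.map (ρ (ww F) : V →* V) : Subgroup V) with hX
  set q := Fintype.card F with hq
  set m := 2 ^ d with hm
  have hq0 : 0 < q := by have := s.four; omega
  have h7 : X * m ^ 2 = q ^ 2 := by
    have h8 : (X * m ^ 2) * q ^ 2 = q ^ 2 * q ^ 2 := by
      calc (X * m ^ 2) * q ^ 2 = (X * Nat.card V) * m ^ 2 := by rw [h6]; ring
        _ = (Nat.card D * m) ^ 2 := by rw [h4]; ring
        _ = q ^ 2 * q ^ 2 := by rw [h5]; ring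
    exact Nat.eq_of_mul_eq_mul_right (by positivity) h8
  have h8 : q * (Nat.card (fx (tau ρ) α ⊓ R : Subgroup V) * m ^ 2) ≤ q * q := by
    calc q * (Nat.card (fx (tau ρ) α ⊓ R : Subgroup V) * m ^ 2) =
        (q * Nat.card (fx (tau ρ) α ⊓ R : Subgroup V)) * m ^ 2 := by ring
      _ ≤ X * m ^ 2 := Nat.mul_le_mul_right _ (h3.trans h2)
      _ = q * q := by rw [h7]; ring
  exact Nat.le_of_mul_le_mul_left h8 hq0

/-- **the numbers** -/
theorem numbers (s : Six ρ R D c d) {σ : Fˣ} (hσ : Sig ρ R D σ) :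
    Fintype.card F = (2 ^ d) ^ 2 ∧ Nat.card (ker ρ σ) = 2 ^ d - 1 := by
  obtain ⟨q₁, hq2, hq, hi⟩ := index_ker_le s hσ
  have h1 := (ker ρ σ).card_mul_index
  rw [card_units, ← hq] at h1
  have h2 := card_ker_le s hσ
  have h3 := s.d_lt
  rw [← hq] at h3
  have h2d : 2 ^ 1 ≤ 2 ^ d := Nat.pow_le_pow_right (by norm_num) s.cfg.pos
  obtain ⟨p, rfl⟩ : ∃ p, q₁ = p + 1 := ⟨q₁ - 1, by omega⟩
  obtain ⟨m, hm⟩ : ∃ m, 2 ^ d = m + 1 := ⟨2 ^ d - 1, by omega⟩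
  rw [hm] at h2 h3 h2d
  have e1 : (p + 1) ^ 2 - 1 = p * (p + 2) := by
    have : (p + 1) ^ 2 = p * (p + 2) + 1 := by ring
    omega
  rw [e1] at h1
  have h4 : p ≤ Nat.card (ker ρ σ) := by
    have h5 : p * (p + 2) ≤ Nat.card (ker ρ σ) * (p + 2) := by
      rw [← h1]
      exact Nat.mul_le_mul_left _ hi
    exact Nat.le_of_mul_le_mul_right h5 (by omega)
  have h5 : p = m := by
    by_cases hp : p = 1
    · subst hp
      have h6 : m + 1 < 4 := by simpa using h3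
      have h7 : d = 1 := by
        have h8 : 2 ^ d < 2 ^ 2 := by rw [hm]; omega
        have h9 := (Nat.pow_lt_pow_iff_right (by norm_num : 1 < 2)).1 h8
        have := s.cfg.pos
        omega
      rw [h7] at hm
      omega
    · have h6 : 2 ≤ Nat.card (ker ρ σ) := by omega
      obtain ⟨⟨α, hα⟩, hα1⟩ := Subgroup.ne_bot_iff_exists_ne_one.1 (show ker ρ σ ≠ ⊥ by
        intro h; rw [h, Subgroup.card_bot] at h6; omega)
      have h7 := card_CR_le s hσ hα (fun h => hα1 (Subtype.ext h))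
      rw [hm, ← hq] at h7
      have h8 : 0 < Nat.card (fx (tau ρ) α ⊓ R : Subgroup V) := Nat.card_pos
      have h9 : (m + 1) ^ 2 ≤ (p + 1) ^ 2 := by
        refine le_trans ?_ h7
        exact Nat.le_mul_of_pos_left _ h8
      have h10 := (Nat.pow_le_pow_iff_left (by norm_num)).1 h9
      omega
  rw [h5] at h4 hq
  rw [hm]
  exact ⟨hq.symm, by omega⟩

/-- the stabiliser of a coset of `D` -/
theorem card_stab (s : Six ρ R D c d) {σ : Fˣ} (hσ : Sig ρ R D σ) {v : V} (hv : v ∉ D) :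
    Nat.card (FFSl2.stb (quo (tau ρ) D (tau_D s)) (v : V ⧸ D)) = 2 ^ d + 1 := by
  set St := FFSl2.stb (quo (tau ρ) D (tau_D s)) (v : V ⧸ D) with hSt
  set π := quo (tau ρ) D (tau_D s) with hπ
  obtain ⟨h1, h2⟩ := numbers s hσ
  have h2d : 2 ^ 1 ≤ 2 ^ d := Nat.pow_le_pow_right (by norm_num) s.cfg.pos
  obtain ⟨m, hm⟩ : ∃ m, 2 ^ d = m + 1 := ⟨2 ^ d - 1, by omega⟩
  have e1 : (m + 1) ^ 2 - 1 = m * (m + 2) := by
    have : (m + 1) ^ 2 = m * (m + 2) + 1 := by ring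
    omega
  have hcU : Nat.card Fˣ = m * (m + 2) := by rw [card_units, h1, hm, e1]
  have hN : Nat.card (ker ρ σ) = m := by rw [h2, hm]; omega
  have hm0 : 0 < m := by omega
  -- `|St| |N| ≤ |F^×|`
  have h3 : Nat.card St * Nat.card (ker ρ σ) ≤ Nat.card Fˣ := by
    rw [← Nat.card_prod]
    apply Nat.card_le_card_of_injective (fun p : St × ker ρ σ => ((p.1 : Fˣ) * (p.2 : Fˣ)))
    rintro ⟨⟨x, hx⟩, ⟨n, hn⟩⟩ ⟨⟨x', hx'⟩, ⟨n', hn'⟩⟩ h
    have h4 : x * n = x' * n' := h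
    have h5 : x'⁻¹ * x = n' * n⁻¹ := by
      rw [inv_mul_eq_iff_eq_mul, ← mul_assoc, ← h4, mul_inv_cancel_right]
    have h6 : n' * n⁻¹ = 1 := by
      by_contra hne
      apply hv
      apply semireg s hσ (mul_mem hn' (inv_mem hn)) hne
      have h7 : x'⁻¹ * x ∈ St := mul_mem (inv_mem hx') hx
      rw [h5] at h7
      have h8 : π (n' * n⁻¹) (v : V ⧸ D) = (v : V ⧸ D) := h7
      rw [hπ, quo_apply, QuotientGroup.eq] at h8
      have h9 := inv_mem h8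
      rw [_root_.mul_inv_rev, inv_inv, mul_comm] at h9
      exact h9
    have h7 : n = n' := (mul_inv_eq_one.1 h6).symm
    subst h7
    have h8 : x = x' := mul_right_cancel h4
    subst h8
    rfl
  -- `|F^× : St| ≤ |V/D| - 1`
  have h4 : St.index ≤ m := by
    have h5 : Nat.card {w : V ⧸ D // w ≠ 1} = m := by
      have h6 : Nat.card {w : V ⧸ D // w ≠ 1} = ({(1 : V ⧸ D)}ᶜ : Set (V ⧸ D)).ncard := rfl
      rw [h6, Set.ncard_compl, Set.ncard_singleton, show Nat.card (V ⧸ D) = 2 ^ d from s.cfg.index, hm]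
      rfl
    rw [← h5]
    let φ : Fˣ ⧸ St → {w : V ⧸ D // w ≠ 1} := fun x => ⟨π x.out (v : V ⧸ D), fun h => hv (by
      have h6 : (v : V ⧸ D) = 1 := by
        apply (π x.out).injective
        rw [h, map_one]
      exact (QuotientGroup.eq_one_iff v).1 h6)⟩
    refine Nat.card_le_card_of_injective φ ?_
    intro x y h
    have h6 : π x.out (v : V ⧸ D) = π y.out (v : V ⧸ D) := congrArg Subtype.val h
    rw [← x.out_eq', ← y.out_eq']
    refine (QuotientGroup.eq.2 ?_).symm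
    show π ((y.out)⁻¹ * x.out) (v : V ⧸ D) = (v : V ⧸ D)
    rw [map_mul, MulAut.mul_apply, h6, ← MulAut.mul_apply, ← map_mul, inv_mul_cancel, map_one]; rfl
  have h5 := St.card_mul_index
  rw [hcU] at h3 h5
  rw [hN] at h3
  have h6 : Nat.card St ≤ m + 2 := by
    have h7 : Nat.card St * m ≤ (m + 2) * m := by rw [mul_comm (m + 2)]; exact h3
    exact Nat.le_of_mul_le_mul_right h7 hm0
  have h7 : m + 2 ≤ Nat.card St := by
    have h8 : (m + 2) * m ≤ Nat.card St * m := by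
      rw [mul_comm (m + 2), ← h5]
      exact Nat.mul_le_mul_left _ h4
    exact Nat.le_of_mul_le_mul_right h8 hm0
  rw [hm]
  omega

/-- **(6.4)** -/
theorem final (s : Six ρ R D c d) : Fintype.card F = (2 ^ d) ^ 2 ∧ Nat.card R = 2 ^ d ∧
    (∀ α : Fˣ, α ≠ 1 → α ^ (2 ^ d - 1) = 1 → ∀ v, tau ρ α v * v⁻¹ ∈ D → v ∈ D) ∧
    (∀ α : Fˣ, α ≠ 1 → α ^ (2 ^ d - 1) = 1 → ∀ r ∈ R, tau ρ α r = r → r = 1) ∧
    (∀ α : Fˣ, α ^ (2 ^ d - 1) = 1 → ∀ v ∈ D, tau ρ α v * v⁻¹ ∈ R) ∧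
    (∀ α : Fˣ, α ^ (2 ^ d + 1) = 1 → ∀ v, tau ρ α v * v⁻¹ ∈ D) ∧
    (∀ α : Fˣ, α ≠ 1 → α ^ (2 ^ d + 1) = 1 → ∀ v ∈ D, tau ρ α v * v⁻¹ ∈ R → v ∈ R) := by
  obtain ⟨σ, hσ⟩ := exists_sig s
  obtain ⟨h1, h2⟩ := numbers s hσ
  have h2d : 2 ^ 1 ≤ 2 ^ d := Nat.pow_le_pow_right (by norm_num) s.cfg.pos
  have hmem : ∀ α : Fˣ, α ^ (2 ^ d - 1) = 1 → α ∈ ker ρ σ := fun α hα => mem_of_pow h2 (by omega) hα
  have hplus : ∀ α : Fˣ, α ^ (2 ^ d + 1) = 1 → ∀ v, tau ρ α v * v⁻¹ ∈ D := by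
    intro α hα v
    by_cases hv : v ∈ D
    · exact mul_mem (tau_D s α v hv) (inv_mem hv)
    · have h3 := mem_of_pow (card_stab s hσ hv) (by omega) hα
      have h4 : quo (tau ρ) D (tau_D s) α (v : V ⧸ D) = (v : V ⧸ D) := h3
      rw [quo_apply, QuotientGroup.eq] at h4
      have h5 := inv_mem h4
      rw [_root_.mul_inv_rev, inv_inv, mul_comm] at h5
      exact h5
  refine ⟨h1, ?_, ?_, ?_, ?_, hplus, ?_⟩
  · have h3 := s.card_R
    rw [h1, pow_two] at h3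
    exact Nat.eq_of_mul_eq_mul_right (by omega) h3
  · intro α hα1 hα
    exact semireg s hσ (hmem α hα) hα1
  · intro α hα1 hα r hr hf
    have h3 := card_CR_le s hσ (hmem α hα) hα1
    rw [h1] at h3
    have h4 : Nat.card (fx (tau ρ) α ⊓ R : Subgroup V) ≤ 1 := by
      have h5 : 0 < (2 ^ d) ^ 2 := by positivity
      exact Nat.le_of_mul_le_mul_right (by rw [one_mul]; exact h3) h5
    have h5 : fx (tau ρ) α ⊓ R = ⊥ := (Subgroup.card_le_one_iff_eq_bot _).1 h4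
    have h6 : r ∈ fx (tau ρ) α ⊓ R := ⟨hf, hr⟩
    rwa [h5, Subgroup.mem_bot] at h6
  · intro α hα v hv
    obtain ⟨u, hu, r, hr, rfl⟩ := (decomp s hσ.ne hσ.onD).2 v hv
    have h3 := hmem α hα u hu
    rw [map_mul, h3, mul_inv, mul_mul_mul_comm, mul_inv_cancel, one_mul]
    exact mul_mem (tau_R s α r hr) (inv_mem hr)
  · intro α hα1 hα
    obtain ⟨v, hv⟩ := s.cfg.exists_notMem
    exact fpf_DR s hα1 hv (hplus α hα v)

end Cfsg.Agent.OddCyclic.ClaimC.SixU
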