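import Cfsg.Agent.OddCyclic.ClaimC.SixPP
import Cfsg.Agent.S0262

/-!
# CLAIM C, section 6: real elements of `SL₂(q)`, `q = 2^f`

`l^k` a primitive odd prime power divisor of `2^(2f) - 1`. Every involution of `SL₂(q)` inverts an element of order `l^k`,
and an element of order `l^k` is inverted by an involution of every Sylow 2-subgroup.
-/

set_option autoImplicit false
set_option linter.unusedSectionVars false
set_option linter.unusedSimpArgs false

namespace Cfsg.Agent.OddCyclic.ClaimC.SixY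

open Matrix Cfsg.Agent.OddCyclic.T1Module Cfsg.Agent.OddCyclic.T1Sl2 Cfsg.Agent.OddCyclic.FFBasic
  Cfsg.Agent.OddCyclic.ClaimC.SixPP

variable {F : Type*} [Field F] [Fintype F] [CharP F 2] {f l k : ℕ}

theorem card_eq' (hF : Fintype.card F = 2 ^ f) :
    Nat.card (SpecialLinearGroup (Fin 2) F) = 2 ^ f * (2 ^ (2 * f) - 1) := by
  rw [card_sl2, hF]
  have h1 : 2 ^ (2 * f) - 1 = (2 ^ f + 1) * (2 ^ f - 1) := by
    have := Nat.sq_sub_sq (2 ^ f) 1
    rw [one_pow] at this
    rw [← this, ← pow_mul, mul_comm f 2]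
  rw [h1]; ring

/-- elements of order `l^k` -/
theorem exists_orderOf (hF : Fintype.card F = 2 ^ f) (h : PP (2 * f) l k) :
    ∃ y : SpecialLinearGroup (Fin 2) F, orderOf y = l ^ k := by
  have : Fact (Nat.Prime 2) := ⟨Nat.prime_two⟩
  have : Fact l.Prime := ⟨h.prime⟩
  obtain ⟨R⟩ : Nonempty (Sylow l (SpecialLinearGroup (Fin 2) F)) := inferInstance
  have hc : IsCyclic (R : Subgroup (SpecialLinearGroup (Fin 2) F)) := S0262.result 2 l h.ne h.ne R
  have h1 : l ^ k ∣ Nat.card (SpecialLinearGroup (Fin 2) F) := by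
    rw [card_eq' hF]
    exact h.dvd.mul_left _
  have h2 : l ^ k ∣ Nat.card R := R.pow_dvd_card_of_pow_dvd_card h1
  obtain ⟨g, hg⟩ := IsCyclic.exists_generator (α := R)
  have hgo : orderOf g = Nat.card R := orderOf_eq_card_of_forall_mem_zpowers hg
  obtain ⟨m, hm⟩ := h2
  have hm0 : m ≠ 0 := by
    rintro rfl
    have : 0 < Nat.card R := Nat.card_pos
    omega
  refine ⟨(g : SpecialLinearGroup (Fin 2) F) ^ m, ?_⟩
  have h3 : orderOf (g : SpecialLinearGroup (Fin 2) F) = l ^ k * m := by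
    rw [Subgroup.orderOf_coe, hgo, hm]
  rw [orderOf_pow_of_dvd hm0 (by rw [h3]; exact Dvd.intro_left _ rfl), h3,
    Nat.mul_div_cancel _ (Nat.pos_of_ne_zero hm0)]

theorem exists_inverted (hF : Fintype.card F = 2 ^ f) (h : PP (2 * f) l k)
    {a : SpecialLinearGroup (Fin 2) F} (ha : a * a = 1) (ha1 : a ≠ 1) :
    ∃ y, orderOf y = l ^ k ∧ a * y * a⁻¹ = y⁻¹ := by
  obtain ⟨y₀, hy₀⟩ := exists_orderOf hF h
  obtain ⟨y, hy, hay⟩ := inverts_of_orderOf ha ha1 (y₀ := y₀) (by rw [hy₀]; exact h.not_dvd_two)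
  exact ⟨y, by rw [hy, hy₀], hay⟩

theorem pow00 {y : SpecialLinearGroup (Fin 2) F} (h10 : y 1 0 = 0) (n : ℕ) :
    (y ^ n) 0 0 = (y 0 0) ^ n ∧ (y ^ n) 1 0 = 0 := by
  induction n with
  | zero => rw [pow_zero, pow_zero]; exact ⟨one00, one10⟩
  | succ n ih =>
    rw [pow_succ, mul00, mul10, ih.1, ih.2, h10, pow_succ]
    exact ⟨by ring, by ring⟩

/-- an element of order `l^k` has no eigenvalue in `F` -/
theorem ne_zero (hF : Fintype.card F = 2 ^ f) (hf : 1 ≤ f) (h : PP (2 * f) l k)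
    {y : SpecialLinearGroup (Fin 2) F} (hy : orderOf y = l ^ k) : y 1 0 ≠ 0 := by
  intro h10
  have h1 := pow00 h10
  have hd := T1Sl2.det y
  have h00 : y 0 0 ≠ 0 := by
    intro h0
    rw [h0, h10] at hd
    simp at hd
  have h2 : y ^ (Fintype.card F - 1) ∈ SU F := by
    rw [mem_SU, (h1 _).1, (h1 _).2, FiniteField.pow_card_sub_one_eq_one _ h00]
    exact ⟨rfl, rfl⟩
  have h3 := SU_sq h2
  rw [← pow_add] at h3
  have h4 := orderOf_dvd_of_pow_eq_one h3
  rw [hy, ← two_mul, hF] at h4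
  have h5 : Nat.Coprime (l ^ k) 2 := Nat.coprime_two_right.2 h.odd
  have h6 := h5.dvd_of_dvd_mul_left h4
  have h7 := h.min f (by omega) h6
  omega

theorem tr_ne_zero (h : PP (2 * f) l k) {y : SpecialLinearGroup (Fin 2) F} (hy : orderOf y = l ^ k) :
    y 0 0 + y 1 1 ≠ 0 := by
  intro h0
  have hd := T1Sl2.det y
  have h2 : (2 : F) = 0 := CharTwo.two_eq_zero
  have h5 : y 1 1 = y 0 0 := by linear_combination h0 - y 0 0 * h2
  rw [h5] at hd
  have h1 : y * y = 1 := by
    apply ext2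
    · rw [mul00, one00]; linear_combination hd + (y 0 1 * y 1 0) * h2
    · rw [mul01, one01, h5]; linear_combination (y 0 0 * y 0 1) * h2
    · rw [mul10, one10, h5]; linear_combination (y 0 0 * y 1 0) * h2
    · rw [mul11, one11, h5]; linear_combination hd + (y 0 1 * y 1 0) * h2
  apply h.not_dvd_two
  rw [← hy]
  exact orderOf_dvd_of_pow_eq_one (by rw [pow_two, h1])

/-- `y` is inverted by an element of `SU F` -/
theorem up_inverts {y : SpecialLinearGroup (Fin 2) F} (h10 : y 1 0 ≠ 0) (htr : y 0 0 + y 1 1 ≠ 0) :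
    ∃ t : F, t ≠ 0 ∧ up t * y * (up t)⁻¹ = y⁻¹ := by
  have h2 : (2 : F) = 0 := CharTwo.two_eq_zero
  have hd := T1Sl2.det y
  refine ⟨(y 0 0 + y 1 1) / y 1 0, div_ne_zero htr h10, ?_⟩
  set t := (y 0 0 + y 1 1) / y 1 0 with ht
  have h3 : t * y 1 0 = y 0 0 + y 1 1 := by rw [ht]; field_simp
  have h4 : up t * y * (up t * y) = 1 := by
    apply ext2
    · simp only [mul00, mul01, mul10, mul11, up00, up01, up10, up11, one00]
      linear_combination hd + (3 * y 0 0 + 2 * y 1 1 + t * y 1 0) * h3 +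
        (y 0 1 * y 1 0 + 2 * y 0 0 ^ 2 + 2 * y 0 0 * y 1 1 + y 1 1 ^ 2) * h2
    · simp only [mul00, mul01, mul10, mul11, up00, up01, up10, up11, one01]
      linear_combination (y 0 1 + t * y 1 1) * h3 + (y 0 1 + t * y 1 1) * (y 0 0 + y 1 1) * h2
    · simp only [mul00, mul01, mul10, mul11, up00, up01, up10, up11, one10]
      linear_combination y 1 0 * h3 + y 1 0 * (y 0 0 + y 1 1) * h2
    · simp only [mul00, mul01, mul10, mul11, up00, up01, up10, up11, one11]
      linear_combination hd + y 1 1 * h3 + (y 0 1 * y 1 0 + y 1 1 * y 1 1) * h2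
  have h5 : (up t : SpecialLinearGroup (Fin 2) F)⁻¹ = up t := by
    rw [inv_eq_iff_mul_eq_one, up_mul, CharTwo.add_self_eq_zero, up_zero]
  rw [h5]
  rw [← mul_assoc] at h4
  exact eq_inv_of_mul_eq_one_left h4

/-- every conjugate of `SU F` contains an involution inverting `y` -/
theorem conj_inverts (hF : Fintype.card F = 2 ^ f) (hf : 1 ≤ f) (h : PP (2 * f) l k)
    {y : SpecialLinearGroup (Fin 2) F} (hy : orderOf y = l ^ k) (g : SpecialLinearGroup (Fin 2) F) :
    ∃ b ∈ SU F, b ≠ 1 ∧ (g * b * g⁻¹) * y * (g * b * g⁻¹)⁻¹ = y⁻¹ := by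
  have h1 : orderOf (g⁻¹ * y * g) = l ^ k := by
    have := orderOf_conj' g⁻¹ y
    rw [inv_inv] at this
    rw [this, hy]
  obtain ⟨t, ht, h2⟩ := up_inverts (ne_zero hF hf h h1) (tr_ne_zero h h1)
  refine ⟨up t, mem_SU_iff.2 ⟨t, rfl⟩, ?_, ?_⟩
  · intro h3
    have h4 : (up t : SpecialLinearGroup (Fin 2) F) 0 1 = 0 := by rw [h3, one01]
    exact ht h4
  · calc g * up t * g⁻¹ * y * (g * up t * g⁻¹)⁻¹ = g * (up t * (g⁻¹ * y * g) * (up t)⁻¹) * g⁻¹ := by group
      _ = g * (g⁻¹ * y * g)⁻¹ * g⁻¹ := by rw [h2]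
      _ = y⁻¹ := by group

/-- all involutions of `SL₂(q)` are conjugate to one in `SU F` -/
theorem exists_conj {a : SpecialLinearGroup (Fin 2) F} (ha : a * a = 1) (ha1 : a ≠ 1)
    {b : SpecialLinearGroup (Fin 2) F} (hb : b * b = 1) (hb1 : b ≠ 1) : ∃ g, a = g * b * g⁻¹ := by
  obtain ⟨g, t, rfl⟩ := exists_conj_up ha
  obtain ⟨g', t', rfl⟩ := exists_conj_up hb
  have ht : t ≠ 0 := by
    rintro rfl
    apply ha1
    rw [up_zero]; group
  have ht' : t' ≠ 0 := by
    rintro rfl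
    apply hb1
    rw [up_zero]; group
  obtain ⟨s, hs⟩ := exists_sqrt (t / t')
  have hs0 : s ≠ 0 := by
    rintro rfl
    rw [mul_zero] at hs
    exact div_ne_zero ht ht' hs.symm
  have h1 : dg (Units.mk0 s hs0) * up t' * (dg (Units.mk0 s hs0))⁻¹ = up t := by
    apply ext2
    · simp only [mul00, mul01, mul10, mul11, inv00, inv01, inv10, inv11, up00, up01, up10, up11, dg00, dg01, dg10, dg11]
      simp [hs0]
    · simp only [mul00, mul01, mul10, mul11, inv00, inv01, inv10, inv11, up00, up01, up10, up11, dg00, dg01, dg10, dg11]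
      simp only [Units.val_mk0, mul_zero, add_zero, neg_zero, zero_mul, zero_add]
      rw [mul_comm (s * t') s, ← mul_assoc, hs]
      field_simp
    · simp only [mul00, mul01, mul10, mul11, inv00, inv01, inv10, inv11, up00, up01, up10, up11, dg00, dg01, dg10, dg11]
      simp
    · simp only [mul00, mul01, mul10, mul11, inv00, inv01, inv10, inv11, up00, up01, up10, up11, dg00, dg01, dg10, dg11]
      simp [hs0]
  refine ⟨g * dg (Units.mk0 s hs0) * g'⁻¹, ?_⟩
  rw [← h1]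
  group

end Cfsg.Agent.OddCyclic.ClaimC.SixY
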